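/-
Real forms of the unitary space of dimension four: frames and reflections.
-/
import Cfsg.Agent.Lib.MaxSub.SUFour.Point
import Cfsg.Agent.Lib.MaxSub.SubfieldMaximalGUTools

set_option autoImplicit false
set_option maxHeartbeats 600000
set_option linter.unusedSectionVars false

namespace CfsgLib.MaxSub.SUFour.OFour

open Matrix Module Cfsg Cfsg.Geo CfsgLib.UnitaryTransvection CfsgLib.MaxSub.Rational
open CfsgLib.MaxSub.SubfieldGU (IsR col_rat eq_sum_col eq_zero_of_values)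
open CfsgLib.MaxSub.PairSU (h_zero)

variable {F : Type*} [Field F] [Fintype F] {q : ℕ} {hF : Fintype.card F = q ^ 2}
  {F₀ : Subfield F} {P : GL (Fin 4) F}

local notation "V" => Fin 4 → F
local notation "h" => Cfsg.hermForm 4 F q
local notation "σ" => frob hF
local notation "M4" => Matrix (Fin 4) (Fin 4) F
local notation "G" => Cfsg.GU 4 F q ⊓ specialLinear (Fin 4) F

/-- A real form, at least five real scalars, odd characteristic. -/
structure Real4 (hF : Fintype.card F = q ^ 2) (F₀ : Subfield F) (P : GL (Fin 4) F) : Prop where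
  five : 5 ≤ q
  odd : Odd q
  card : Fintype.card F = Nat.card F₀ ^ 2
  rat : IsFormRationalStructure (Cfsg.hermForm 4 F q) F₀ 1 P

include hF

theorem card_sub (S : Real4 hF F₀ P) : Nat.card F₀ = q :=
  Nat.pow_left_injective two_ne_zero (S.card.symm.trans hF)

theorem fixed (S : Real4 hF F₀ P) {x : F} (hx : x ∈ F₀) : σ x = x := by
  haveI : Fintype F₀ := Fintype.ofFinite _
  rw [frob_apply, ← card_sub S, Nat.card_eq_fintype_card]
  exact congrArg Subtype.val (FiniteField.pow_card (⟨x, hx⟩ : F₀))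

theorem mem_fixed (S : Real4 hF F₀ P) {x : F} (hx : σ x = x) : x ∈ F₀ :=
  CfsgLib.Aschbacher.mem_of_pow_card_eq (by rw [card_sub S, ← frob_apply hF, hx])

theorem two_ne (S : Real4 hF F₀ P) : (2 : F) ≠ 0 := by
  intro e
  haveI : CharP F 2 := CharTwo.of_one_ne_zero_of_two_eq_zero one_ne_zero e
  obtain ⟨d, -, hd⟩ := FiniteField.card F 2
  have h1 : Odd (Fintype.card F) := hF ▸ S.odd.pow
  rw [hd, Nat.odd_iff] at h1
  have h2 : 2 ∣ 2 ^ (d : ℕ) := dvd_pow_self 2 d.ne_zero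
  omega

theorem two_mem (S : Real4 hF F₀ P) : (2 : F) ∈ F₀ := by
  rw [← one_add_one_eq_two]; exact F₀.add_mem F₀.one_mem F₀.one_mem

theorem h_rat (S : Real4 hF F₀ P) {u v : V} (hu : IsR F₀ P u) (hv : IsR F₀ P v) : h u v ∈ F₀ := by
  obtain ⟨x, hx, rfl⟩ := hu
  obtain ⟨y, hy, rfl⟩ := hv
  simpa using S.rat x y hx hy

theorem h_symm (S : Real4 hF F₀ P) {u v : V} (hu : IsR F₀ P u) (hv : IsR F₀ P v) : h v u = h u v := by
  rw [← h_swap hF, fixed S (h_rat S hu hv)]

/-- Real and imaginary parts. -/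
theorem split_scalar (S : Real4 hF F₀ P) {ε : F} (hε : σ ε = -ε) (hε0 : ε ≠ 0) (x : F) :
    ∃ a ∈ F₀, ∃ b ∈ F₀, x = a + ε * b := by
  have h2 := two_ne S
  refine ⟨(x + σ x) / 2, mem_fixed S ?_, (x - σ x) / (2 * ε), mem_fixed S ?_, ?_⟩
  · rw [map_div₀, map_add, frob_frob hF, fixed S (two_mem S), add_comm]
  · rw [map_div₀, map_mul, map_sub, frob_frob hF, fixed S (two_mem S), hε]
    field_simp
    ring
  · field_simp; ring

theorem split_vec (S : Real4 hF F₀ P) {ε : F} (hε : σ ε = -ε) (hε0 : ε ≠ 0) (x : V) :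
    ∃ a b, IsR F₀ P a ∧ IsR F₀ P b ∧ x = a + ε • b := by
  choose a ha b hb e using fun i => split_scalar S hε hε0 ((((P⁻¹ : GL (Fin 4) F) : M4) *ᵥ x) i)
  refine ⟨_, _, ⟨a, ha, rfl⟩, ⟨b, hb, rfl⟩, ?_⟩
  rw [← Matrix.mulVec_smul, ← Matrix.mulVec_add, show a + ε • b = ((P⁻¹ : GL (Fin 4) F) : M4) *ᵥ x from
    funext fun i => (e i).symm, mul_inv_mulVec]

/-- A scalar outside the subfield separates. -/
theorem eq_zero_of_split (S : Real4 hF F₀ P) {ε a b : F} (hε : σ ε = -ε) (hε0 : ε ≠ 0) (ha : a ∈ F₀)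
    (hb : b ∈ F₀) (e : a + ε * b = 0) : a = 0 ∧ b = 0 := by
  have e' := congrArg σ e
  rw [map_add, map_mul, fixed S ha, fixed S hb, hε, map_zero] at e'
  have ha' : a = 0 := (mul_eq_zero.1 (show (2 : F) * a = 0 by linear_combination e + e')).resolve_left (two_ne S)
  rw [ha', zero_add] at e
  exact ⟨ha', (mul_eq_zero.1 e).resolve_left hε0⟩

/-- Elements of the subfield subgroup are scalars times real. -/
theorem maps_of_mem {g : GL (Fin 4) F} (hg : g ∈ subfieldSubgroup F₀ P) :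
    ∃ c : F, c ≠ 0 ∧ ∀ w, IsR F₀ P w → ∃ w', IsR F₀ P w' ∧ (g : M4) *ᵥ w = c • w' := by
  obtain ⟨X, hX, rfl⟩ := hg
  obtain ⟨_, ⟨M, rfl⟩, s, hs, rfl⟩ := Subgroup.mem_sup_of_normal_right.1 hX
  obtain ⟨d, hd⟩ := (Cfsg.Geo.mem_scalars_iff s).1 hs
  refine ⟨d, d.ne_zero, ?_⟩
  rintro _ ⟨x, hx, rfl⟩
  refine ⟨(P : M4) *ᵥ ((M : Matrix (Fin 4) (Fin 4) F₀).map (F₀.subtype : F₀ →+* F) *ᵥ x),
    ⟨_, fun i => ?_, rfl⟩, ?_⟩
  · simp only [Matrix.mulVec, dotProduct, Matrix.map_apply]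
    exact Subfield.sum_mem _ fun j _ => F₀.mul_mem (Subtype.prop _) (hx j)
  · rw [MulEquiv.coe_toMonoidHom, MulAut.conj_apply, Units.val_mul, Units.val_mul,
      Matrix.mulVec_mulVec, Matrix.mul_assoc, Units.inv_mul, Matrix.mul_one, Units.val_mul, hd]
    rw [← Matrix.mulVec_smul, ← Matrix.mulVec_mulVec, Matrix.mul_smul, Matrix.mul_one,
      Matrix.smul_mulVec]
    rfl

/-- An anisotropic real vector perpendicular to fewer than four orthogonal anisotropic ones. -/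
theorem exists_aniso (S : Real4 hF F₀ P) {k : ℕ} (hk : k < 4) {b : Fin k → V} (hb : ∀ i, IsR F₀ P (b i))
    (ho : ∀ i j, i ≠ j → h (b i) (b j) = 0) (ha : ∀ i, h (b i) (b i) ≠ 0) :
    ∃ v, IsR F₀ P v ∧ (∀ i, h v (b i) = 0) ∧ h v v ≠ 0 := by
  classical
  by_contra hc
  push Not at hc
  have hsumR : ∀ (s : Finset (Fin k)) (y : V), IsR F₀ P y →
      IsR F₀ P (∑ i ∈ s, (h y (b i) / h (b i) (b i)) • b i) := by
    intro s y hy
    induction s using Finset.induction with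
    | empty => simpa using IsR.zero
    | insert i s hi ih =>
      rw [Finset.sum_insert hi]
      exact ((hb i).smul (F₀.div_mem (h_rat S hy (hb i)) (h_rat S (hb i) (hb i)))).add ih
  let π : V → V := fun y => y - ∑ i, (h y (b i) / h (b i) (b i)) • b i
  have hπR : ∀ y, IsR F₀ P y → IsR F₀ P (π y) := fun y hy => hy.sub (hsumR _ y hy)
  have hπ : ∀ y i, h (π y) (b i) = 0 := fun y i => by
    simp only [π, h_sub_left, h_sum_left (hF := hF), h_smul_left]
    rw [Finset.sum_eq_single i (fun j _ hj => by rw [ho j i hj, mul_zero]) (by simp),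
      div_mul_cancel₀ _ (ha i), sub_self]
  have hiso : ∀ y, IsR F₀ P y → h (π y) (π y) = 0 := fun y hy => hc _ (hπR y hy) (hπ y)
  have hcross : ∀ y z, IsR F₀ P y → IsR F₀ P z → h (π y) (π z) = 0 := fun y z hy hz => by
    have := hc (π y + π z) ((hπR y hy).add (hπR z hz)) fun i => by
      rw [h_add_left, hπ, hπ, add_zero]
    rw [h_add_left, h_add_right hF, h_add_right hF, hiso y hy, hiso z hz,
      h_symm S (hπR y hy) (hπR z hz)] at this
    exact (mul_eq_zero.1 (show (2 : F) * h (π y) (π z) = 0 by linear_combination this)).resolve_left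
      (two_ne S)
  have hπ0 : ∀ j, π (SubfieldGU.col P j) = 0 := fun j =>
    eq_zero_of_values (hF := hF) (P := P) fun i => by
      have e : SubfieldGU.col P i = π (SubfieldGU.col P i) +
          ∑ l, (h (SubfieldGU.col P i) (b l) / h (b l) (b l)) • b l := (sub_add_cancel _ _).symm
      rw [e, h_add_left, hcross _ _ (col_rat i) (col_rat j), h_sum_left (hF := hF), zero_add]
      exact Finset.sum_eq_zero fun l _ => by rw [h_smul_left, h_zero (hF := hF) (hπ _ l), mul_zero]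
  have hsp : (⊤ : Submodule F V) ≤ Submodule.span F (Set.range b) := fun y _ => by
    rw [eq_sum_col P y]
    refine Submodule.sum_mem _ fun i _ => Submodule.smul_mem _ _ ?_
    rw [sub_eq_zero.1 (hπ0 i)]
    exact Submodule.sum_mem _ fun l _ => Submodule.smul_mem _ _ (Submodule.subset_span ⟨l, rfl⟩)
  have := (Submodule.finrank_mono hsp).trans (finrank_range_le_card b)
  rw [finrank_top, Module.finrank_fin_fun, Fintype.card_fin] at this
  omega

/-- A nonzero real singular vector. -/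
theorem exists_singular (S : Real4 hF F₀ P) : ∃ r, IsR F₀ P r ∧ r ≠ 0 ∧ h r r = 0 := by
  obtain ⟨a, ha, -, haa⟩ := exists_aniso S (k := 0) (by norm_num) (b := ![]) (fun i => i.elim0)
    (fun i => i.elim0) (fun i => i.elim0)
  obtain ⟨b, hb, hba, hbb⟩ := exists_aniso S (k := 1) (by norm_num) (b := ![a])
    (fun i => by fin_cases i; exact ha) (fun i j e => absurd (Subsingleton.elim i j) e)
    (fun i => by fin_cases i; exact haa)
  have hba' : h b a = 0 := hba 0
  obtain ⟨c, hc, hc', hcc⟩ := exists_aniso S (k := 2) (by norm_num) (b := ![a, b])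
    (fun i => by fin_cases i <;> assumption) (fun i j e => by
      fin_cases i <;> fin_cases j <;> simp_all [h_zero (hF := hF) hba'])
    (fun i => by fin_cases i <;> assumption)
  have hca : h c a = 0 := hc' 0
  have hcb : h c b = 0 := hc' 1
  haveI : Fintype F₀ := Fintype.ofFinite _
  set μ₁ : F₀ := ⟨_, h_rat S ha ha⟩
  set μ₂ : F₀ := ⟨_, h_rat S hb hb⟩
  set μ₃ : F₀ := ⟨_, h_rat S hc hc⟩
  have h1 : μ₁ ≠ 0 := fun e => haa (congrArg Subtype.val e)
  have h2 : μ₂ ≠ 0 := fun e => hbb (congrArg Subtype.val e)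
  obtain ⟨x, y, hxy⟩ := FiniteField.exists_root_sum_quadratic
    (f := Polynomial.C μ₁ * Polynomial.X ^ 2 + Polynomial.C μ₃)
    (g := Polynomial.C μ₂ * Polynomial.X ^ 2)
    (by
      rw [Polynomial.degree_add_C (by rw [Polynomial.degree_C_mul_X_pow 2 h1]; norm_num)]
      exact Polynomial.degree_C_mul_X_pow 2 h1)
    (Polynomial.degree_C_mul_X_pow 2 h2)
    (by
      rw [← Nat.card_eq_fintype_card, card_sub S]
      exact Nat.odd_iff.1 S.odd)
  simp only [Polynomial.eval_add, Polynomial.eval_mul, Polynomial.eval_C, Polynomial.eval_pow,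
    Polynomial.eval_X] at hxy
  have e := congrArg Subtype.val hxy
  simp only [Subfield.coe_add, Subfield.coe_mul, SubmonoidClass.coe_pow, ZeroMemClass.coe_zero, μ₁, μ₂, μ₃] at e
  refine ⟨(x : F) • a + (y : F) • b + c, ((ha.smul x.2).add (hb.smul y.2)).add hc, fun e0 => hcc ?_, ?_⟩
  · have := congrArg (fun z => h z c) e0
    simpa [h_add_left, h_smul_left, h_zero (hF := hF) hca, h_zero (hF := hF) hcb,
      h_zero_left (hF := hF)] using this
  · simp only [h_add_left, h_add_right hF, h_smul_left, h_smul_right hF, hba', hca, hcb,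
      h_zero (hF := hF) hba', h_zero (hF := hF) hca, h_zero (hF := hF) hcb, fixed S x.2, fixed S y.2]
    linear_combination e

/-- A hyperbolic pair with two orthogonal anisotropic vectors, all real. -/
structure Frame (q : ℕ) (F₀ : Subfield F) (P : GL (Fin 4) F) (r r' e₁ e₂ : Fin 4 → F) : Prop where
  rr : IsR F₀ P r
  rr' : IsR F₀ P r'
  re₁ : IsR F₀ P e₁
  re₂ : IsR F₀ P e₂
  sing : Cfsg.hermForm 4 F q r r = 0
  sing' : Cfsg.hermForm 4 F q r' r' = 0
  one : Cfsg.hermForm 4 F q r r' = 1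
  o₁ : Cfsg.hermForm 4 F q r e₁ = 0
  o₂ : Cfsg.hermForm 4 F q r e₂ = 0
  o₁' : Cfsg.hermForm 4 F q r' e₁ = 0
  o₂' : Cfsg.hermForm 4 F q r' e₂ = 0
  o : Cfsg.hermForm 4 F q e₁ e₂ = 0
  n₁ : Cfsg.hermForm 4 F q e₁ e₁ ≠ 0
  n₂ : Cfsg.hermForm 4 F q e₂ e₂ ≠ 0

/-- Every real singular vector lies in a frame. -/
theorem exists_frame (S : Real4 hF F₀ P) {r : V} (hr : IsR F₀ P r) (hr0 : r ≠ 0) (hrr : h r r = 0) :
    ∃ r' e₁ e₂, Frame q F₀ P r r' e₁ e₂ := by
  obtain ⟨i, hi⟩ : ∃ i, h (SubfieldGU.col P i) r ≠ 0 := by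
    by_contra hc
    push Not at hc
    exact hr0 (eq_zero_of_values (hF := hF) (P := P) hc)
  obtain ⟨v, hv⟩ : ∃ v, v = (h (SubfieldGU.col P i) r)⁻¹ • SubfieldGU.col P i := ⟨_, rfl⟩
  have hvR : IsR F₀ P v := hv ▸ (col_rat i).smul (F₀.inv_mem (h_rat S (col_rat i) hr))
  have hvr : h v r = 1 := by rw [hv, h_smul_left, inv_mul_cancel₀ hi]
  have hrv : h r v = 1 := by rw [← h_swap hF, hvr, map_one]
  have hm : h v v / 2 ∈ F₀ := F₀.div_mem (h_rat S hvR hvR) (two_mem S)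
  obtain ⟨r', hr'⟩ : ∃ r', r' = v - (h v v / 2) • r := ⟨_, rfl⟩
  have hr'R : IsR F₀ P r' := hr' ▸ hvR.sub (hr.smul hm)
  have hrr' : h r r' = 1 := by rw [hr', h_sub_right hF, h_smul_right hF, hrv, hrr, mul_zero, sub_zero]
  have hr'r : h r' r = 1 := by rw [← h_swap hF, hrr', map_one]
  have hr'r' : h r' r' = 0 := by
    have h2 := two_ne S
    rw [hr']
    simp only [h_sub_left, h_sub_right hF, h_smul_left, h_smul_right hF, fixed S hm, hrr, hvr, hrv]
    field_simp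
    ring
  have h2 := two_ne S
  have hp : h (r + r') (r + r') = 2 := by
    simp only [h_add_left, h_add_right hF, hrr, hr'r', hrr', hr'r]; ring
  have hm' : h (r - r') (r - r') = -2 := by
    simp only [h_sub_left, h_sub_right hF, hrr, hr'r', hrr', hr'r]; ring
  have hpm : h (r + r') (r - r') = 0 := by
    simp only [h_add_left, h_sub_right hF, hrr, hr'r', hrr', hr'r]; ring
  have hb2 : ∀ i, IsR F₀ P (![r + r', r - r'] i) := fun i => by
    fin_cases i <;> [exact hr.add hr'R; exact hr.sub hr'R]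
  obtain ⟨e₁, he₁, he₁b, hn₁⟩ := exists_aniso S (k := 2) (by norm_num) hb2 (fun i j e => by
      fin_cases i <;> fin_cases j <;> first | exact absurd rfl e | simp [hpm, h_zero (hF := hF) hpm])
    (fun i => by fin_cases i <;> simp [hp, hm', h2])
  have d1 : h e₁ (r + r') = 0 := he₁b 0
  have d2 : h e₁ (r - r') = 0 := he₁b 1
  have key : ∀ e, h e (r + r') = 0 → h e (r - r') = 0 → h r e = 0 ∧ h r' e = 0 := fun e a b => by
    rw [h_add_right hF] at a
    rw [h_sub_right hF] at b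
    exact ⟨h_zero (hF := hF) ((mul_eq_zero.1 (show (2 : F) * h e r = 0 by linear_combination a + b)).resolve_left h2),
      h_zero (hF := hF) ((mul_eq_zero.1 (show (2 : F) * h e r' = 0 by linear_combination a - b)).resolve_left h2)⟩
  obtain ⟨e₂, he₂, he₂b, hn₂⟩ := exists_aniso S (k := 3) (by norm_num) (b := ![r + r', r - r', e₁])
    (fun i => by fin_cases i <;> [exact hr.add hr'R; exact hr.sub hr'R; exact he₁])
    (fun i j e => by
      fin_cases i <;> fin_cases j <;> first | exact absurd rfl e |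
        simp [hpm, d1, d2, h_zero (hF := hF) hpm, h_zero (hF := hF) d1, h_zero (hF := hF) d2])
    (fun i => by fin_cases i <;> simp [hp, hm', h2, hn₁])
  exact ⟨r', e₁, e₂, hr, hr'R, he₁, he₂, hrr, hr'r', hrr', (key e₁ d1 d2).1,
    (key e₂ (he₂b 0) (he₂b 1)).1, (key e₁ d1 d2).2, (key e₂ (he₂b 0) (he₂b 1)).2,
    h_zero (hF := hF) (he₂b 2), hn₁, hn₂⟩

variable {r r' e₁ e₂ : Fin 4 → F}

theorem Frame.swap (B : Frame q F₀ P r r' e₁ e₂) : Frame q F₀ P r' r e₁ e₂ :=
  ⟨B.rr', B.rr, B.re₁, B.re₂, B.sing', B.sing, by rw [← h_swap hF, B.one, map_one], B.o₁', B.o₂', B.o₁,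
    B.o₂, B.o, B.n₁, B.n₂⟩

theorem Frame.exchange (B : Frame q F₀ P r r' e₁ e₂) : Frame q F₀ P r r' e₂ e₁ :=
  ⟨B.rr, B.rr', B.re₂, B.re₁, B.sing, B.sing', B.one, B.o₂, B.o₁, B.o₂', B.o₁', h_zero (hF := hF) B.o,
    B.n₂, B.n₁⟩

/-- The values of a frame on each other. -/
theorem Frame.vals (B : Frame q F₀ P r r' e₁ e₂) :
    h r r = 0 ∧ h r' r' = 0 ∧ h r r' = 1 ∧ h r' r = 1 ∧ h r e₁ = 0 ∧ h r e₂ = 0 ∧ h r' e₁ = 0 ∧
      h r' e₂ = 0 ∧ h e₁ r = 0 ∧ h e₂ r = 0 ∧ h e₁ r' = 0 ∧ h e₂ r' = 0 ∧ h e₁ e₂ = 0 ∧ h e₂ e₁ = 0 :=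
  ⟨B.sing, B.sing', B.one, by rw [← h_swap hF, B.one, map_one], B.o₁, B.o₂, B.o₁', B.o₂',
    h_zero (hF := hF) B.o₁, h_zero (hF := hF) B.o₂, h_zero (hF := hF) B.o₁', h_zero (hF := hF) B.o₂',
    B.o, h_zero (hF := hF) B.o⟩

theorem Frame.indep (B : Frame q F₀ P r r' e₁ e₂) : LinearIndependent F ![r, r', e₁, e₂] := by
  obtain ⟨a1, a2, a3, a4, a5, a6, a7, a8, a9, b1, b2, b3, b4, b5⟩ := B.vals (hF := hF)
  rw [Fintype.linearIndependent_iff]
  intro t ht
  rw [Fin.sum_univ_four] at ht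
  simp only [Matrix.cons_val_zero, Matrix.cons_val_one, Matrix.cons_val] at ht
  have k1 := congrArg (fun y => h y r') ht
  have k2 := congrArg (fun y => h y r) ht
  have k3 := congrArg (fun y => h y e₁) ht
  have k4 := congrArg (fun y => h y e₂) ht
  simp only [h_add_left, h_smul_left, h_zero_left (hF := hF), a1, a2, a3, a4, a5, a6, a7, a8, a9, b1, b2,
    b3, b4, b5, mul_zero, mul_one, add_zero, zero_add, mul_eq_zero, or_iff_left B.n₁, or_iff_left B.n₂]
    at k1 k2 k3 k4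
  intro i
  fin_cases i <;> assumption

/-- Vectors with equal values on a frame are equal. -/
theorem Frame.ext (B : Frame q F₀ P r r' e₁ e₂) {x y : V} (c1 : h x r = h y r) (c2 : h x r' = h y r')
    (c3 : h x e₁ = h y e₁) (c4 : h x e₂ = h y e₂) : x = y := by
  refine sub_eq_zero.1 (h_nondeg hF fun z => ?_)
  have hz : z ∈ Submodule.span F (Set.range ![r, r', e₁, e₂]) := by
    rw [(B.indep (hF := hF)).span_eq_top_of_card_eq_finrank (by simp)]; exact Submodule.mem_top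
  obtain ⟨t, rfl⟩ := (Submodule.mem_span_range_iff_exists_fun F).1 hz
  rw [h_sum_right (hF := hF)]
  refine Finset.sum_eq_zero fun i _ => ?_
  rw [h_smul_right hF, h_sub_left]
  fin_cases i <;> simp [c1, c2, c3, c4]

/-- The expansion in a frame. -/
theorem Frame.expand (B : Frame q F₀ P r r' e₁ e₂) (x : V) :
    x = h x r' • r + h x r • r' + (h x e₁ / h e₁ e₁) • e₁ + (h x e₂ / h e₂ e₂) • e₂ := by
  obtain ⟨a1, a2, a3, a4, a5, a6, a7, a8, a9, b1, b2, b3, b4, b5⟩ := B.vals (hF := hF)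
  apply B.ext (hF := hF) <;>
    simp [h_add_left, h_smul_left, a1, a2, a3, a4, a5, a6, a7, a8, a9, b1, b2, b3, b4, b5, B.n₁, B.n₂]

/-- The trace in a frame. -/
theorem Frame.trace (B : Frame q F₀ P r r' e₁ e₂) (M : M4) :
    M.trace = h (M *ᵥ r) r' + h (M *ᵥ r') r + h (M *ᵥ e₁) e₁ / h e₁ e₁ + h (M *ᵥ e₂) e₂ / h e₂ e₂ := by
  have hdiag : ∀ j, M j j = h (Pi.single j 1) r' * (M *ᵥ r) j + h (Pi.single j 1) r * (M *ᵥ r') j +
      h (Pi.single j 1) e₁ / h e₁ e₁ * (M *ᵥ e₁) j + h (Pi.single j 1) e₂ / h e₂ e₂ * (M *ᵥ e₂) j := fun j => by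
    have e := congrArg (fun y => (M *ᵥ y) j) (B.expand (hF := hF) (Pi.single j (1 : F)))
    simp only [Matrix.mulVec_single_one, Matrix.col_apply, Matrix.mulVec_add, Matrix.mulVec_smul,
      Pi.add_apply, Pi.smul_apply, smul_eq_mul] at e
    exact e
  have hlin : ∀ z y : V, ∑ j, h (Pi.single j (1 : F)) z * y j = h y z := fun z y => by
    conv_rhs => rw [pi_eq_sum_univ' y, h_sum_left (hF := hF)]
    exact Finset.sum_congr rfl fun j _ => by rw [h_smul_left, mul_comm]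
  simp only [Matrix.trace, Matrix.diag, hdiag, Finset.sum_add_distrib, div_mul_eq_mul_div, ← Finset.sum_div,
    hlin]

/-- An element with images proportional to real vectors lies in the subfield subgroup. -/
theorem Frame.mem (S : Real4 hF F₀ P) (B : Frame q F₀ P r r' e₁ e₂) {g : GL (Fin 4) F} {c : F} (hc : c ≠ 0)
    (hg : ∀ v, v = r ∨ v = r' ∨ v = e₁ ∨ v = e₂ → ∃ w, IsR F₀ P w ∧ (g : M4) *ᵥ v = c • w) :
    g ∈ subfieldSubgroup F₀ P := by
  have hall : ∀ v, IsR F₀ P v → ∃ w, IsR F₀ P w ∧ (g : M4) *ᵥ v = c • w := fun v hv => by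
    obtain ⟨w1, hw1, g1⟩ := hg r (Or.inl rfl)
    obtain ⟨w2, hw2, g2⟩ := hg r' (Or.inr (Or.inl rfl))
    obtain ⟨w3, hw3, g3⟩ := hg e₁ (Or.inr (Or.inr (Or.inl rfl)))
    obtain ⟨w4, hw4, g4⟩ := hg e₂ (Or.inr (Or.inr (Or.inr rfl)))
    refine ⟨h v r' • w1 + h v r • w2 + (h v e₁ / h e₁ e₁) • w3 + (h v e₂ / h e₂ e₂) • w4,
      (((hw1.smul (h_rat S hv B.rr')).add (hw2.smul (h_rat S hv B.rr))).add
        (hw3.smul (F₀.div_mem (h_rat S hv B.re₁) (h_rat S B.re₁ B.re₁)))).add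
        (hw4.smul (F₀.div_mem (h_rat S hv B.re₂) (h_rat S B.re₂ B.re₂))), ?_⟩
    conv_lhs => rw [B.expand (hF := hF) v]
    rw [Matrix.mulVec_add, Matrix.mulVec_add, Matrix.mulVec_add, Matrix.mulVec_smul, Matrix.mulVec_smul,
      Matrix.mulVec_smul, Matrix.mulVec_smul, g1, g2, g3, g4]
    module
  choose u hu hue using fun j : Fin 4 => hall _ (col_rat (F₀ := F₀) (P := P) j)
  choose z hz hzu using hu
  refine mem_of_entries hc (N := Matrix.of fun i j => z j i) (fun i j => hz j i) (Matrix.ext fun i j => ?_)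
  have e : ((P⁻¹ * g * P : GL (Fin 4) F) : M4) *ᵥ Pi.single j 1 = c • z j := by
    rw [Units.val_mul, Units.val_mul, ← Matrix.mulVec_mulVec, ← Matrix.mulVec_mulVec,
      show (P : M4) *ᵥ Pi.single j 1 = SubfieldGU.col P j from rfl, hue, Matrix.mulVec_smul, ← hzu,
      inv_mulVec]
  rw [Matrix.mulVec_single_one] at e
  have := congrFun e i
  rw [Matrix.col_apply] at this
  rw [this]
  rfl

/-- The product of two real reflections. -/
theorem exists_refl (S : Real4 hF F₀ P) {z z' : V} (hz : IsR F₀ P z) (hz' : IsR F₀ P z')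
    (hzz : h z z ≠ 0) (hzz' : h z' z' ≠ 0) :
    ∃ k ∈ subfieldSubgroup F₀ P ⊓ G,
      (∀ x, (k : M4) *ᵥ x = (x - (2 / h z' z' * h x z') • z') -
        (2 / h z z * h (x - (2 / h z' z' * h x z') • z') z) • z) ∧
      (k : M4).trace = 4 * (h z' z * h z z') / (h z z * h z' z') := by
  have h2 := two_ne S
  have good : ∀ {y : V}, IsR F₀ P y → h y y ≠ 0 → Good hF y (-2 / h y y) := fun {y} hy hyy => by
    rw [Good, map_div₀, map_neg, fixed S (two_mem S), fixed S (h_rat S hy hy)]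
    field_simp
    ring
  have hdet : (Cfsg.unitaryTransvection 4 q z (-2 / h z z) *
      Cfsg.unitaryTransvection 4 q z' (-2 / h z' z')).det = 1 := by
    rw [Matrix.det_mul, det_tmat, det_tmat, div_mul_cancel₀ _ hzz, div_mul_cancel₀ _ hzz']
    ring
  have hact : ∀ x, (Cfsg.unitaryTransvection 4 q z (-2 / h z z) *
      Cfsg.unitaryTransvection 4 q z' (-2 / h z' z')) *ᵥ x = (x - (2 / h z' z' * h x z') • z') -
        (2 / h z z * h (x - (2 / h z' z' * h x z') • z') z) • z := fun x => by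
    rw [← Matrix.mulVec_mulVec, tmat_mulVec, tmat_mulVec]
    simp only [neg_div, neg_mul, neg_smul, ← sub_eq_add_neg]
  refine ⟨sg _ hdet, ⟨mem_of_maps fun u hu => ?_, sg_mem (fun a b => ?_) hdet⟩, hact, ?_⟩
  · have hr : IsR F₀ P ((P : M4) *ᵥ u) := ⟨u, hu, rfl⟩
    have h3 : IsR F₀ P ((P : M4) *ᵥ u - (2 / h z' z' * h ((P : M4) *ᵥ u) z') • z') :=
      hr.sub (hz'.smul (F₀.mul_mem (F₀.div_mem (two_mem S) (h_rat S hz' hz')) (h_rat S hr hz')))
    obtain ⟨y, hy, e⟩ := h3.sub (hz.smul (F₀.mul_mem (F₀.div_mem (two_mem S) (h_rat S hz hz))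
      (h_rat S h3 hz)))
    exact ⟨y, hy, by rw [e]; exact hact _⟩
  · rw [← Matrix.mulVec_mulVec, ← Matrix.mulVec_mulVec, tmat_isometry hF (good hz hzz),
      tmat_isometry hF (good hz' hzz')]
  · show (Cfsg.unitaryTransvection 4 q z (-2 / h z z) *
      Cfsg.unitaryTransvection 4 q z' (-2 / h z' z')).trace = _
    have tv : ∀ a b : V, (Matrix.vecMulVec a (fun j => b j ^ q)).trace = h a b := fun a b => by
      simp [Matrix.trace, Matrix.diag, Matrix.vecMulVec_apply, Cfsg.hermForm]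
    simp only [Cfsg.unitaryTransvection, Matrix.add_mul, Matrix.mul_add, Matrix.one_mul, Matrix.mul_one,
      Matrix.trace_add, Matrix.trace_one, Fintype.card_fin, Nat.cast_ofNat, Matrix.smul_mul, Matrix.mul_smul,
      smul_smul, Matrix.trace_smul, Matrix.vecMulVec_mul_vecMulVec, Matrix.vecMulVec_smul, smul_eq_mul, tv,
      show ∀ a b : V, (fun j => a j ^ q) ⬝ᵥ b = h b a from fun a b => dotProduct_comm _ _]
    field_simp
    ring

end CfsgLib.MaxSub.SUFour.OFour
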