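/-
Overgroups of the real orthogonal groups: fixed real singular points and the spread of centres.
-/
import Cfsg.Agent.Lib.MaxSub.SUFour.OFour.Basic

set_option autoImplicit false
set_option maxHeartbeats 800000
set_option linter.unusedSectionVars false

namespace CfsgLib.MaxSub.SUFour.OFour

open Matrix Module Cfsg Cfsg.Geo CfsgLib.UnitaryTransvection CfsgLib.MaxSub.Rational
open CfsgLib.MaxSub.SubfieldGU (IsR col_rat eq_zero_of_values)
open CfsgLib.MaxSub.PairSU (IsT InT gl_ext exists_T h_zero)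

variable {F : Type*} [Field F] [Fintype F] {q : ℕ} {hF : Fintype.card F = q ^ 2}
  {F₀ : Subfield F} {P : GL (Fin 4) F} {K : Subgroup (GL (Fin 4) F)}

local notation "V" => Fin 4 → F
local notation "h" => Cfsg.hermForm 4 F q
local notation "σ" => frob hF
local notation "M4" => Matrix (Fin 4) (Fin 4) F
local notation "G" => Cfsg.GU 4 F q ⊓ specialLinear (Fin 4) F

/-- `g` is the Eichler element at `r` of `w`. -/
def IsE (q : ℕ) (r w : Fin 4 → F) (m : F) (g : GL (Fin 4) F) : Prop :=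
  ∀ x, (g : Matrix (Fin 4) (Fin 4) F) *ᵥ x = x + Cfsg.hermForm 4 F q x r • w -
    Cfsg.hermForm 4 F q x w • r + (m * Cfsg.hermForm 4 F q x r) • r

/-- An Eichler element lies in the group. -/
def InE (q : ℕ) (K : Subgroup (GL (Fin 4) F)) (r w : Fin 4 → F) : Prop := ∃ g ∈ K, ∃ m, IsE q r w m g

include hF

/-- The hypotheses on an overgroup. -/
structure Over (hF : Fintype.card F = q ^ 2) (F₀ : Subfield F) (P : GL (Fin 4) F)
    (K : Subgroup (GL (Fin 4) F)) : Prop where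
  str : Real4 hF F₀ P
  le : K ≤ Cfsg.GU 4 F q ⊓ specialLinear (Fin 4) F
  ge : subfieldSubgroup F₀ P ⊓ (Cfsg.GU 4 F q ⊓ specialLinear (Fin 4) F) ≤ K

theorem IsE.mul {r w w' : V} (hrr : h r r = 0) (hrw : h r w = 0) (hrw' : h r w' = 0) {m m' : F}
    {g g' : GL (Fin 4) F} (e : IsE q r w m g) (e' : IsE q r w' m' g') :
    IsE q r (w + w') (m + m' - h w' w) (g * g') := fun x => by
  have hwr := h_zero (hF := hF) hrw
  have hwr' := h_zero (hF := hF) hrw'
  rw [Units.val_mul, ← Matrix.mulVec_mulVec, e' x, e]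
  simp only [h_add_left, h_sub_left, h_add_right hF, h_smul_left, hrr, hrw, hwr, hrw', hwr']
  module

theorem IsE.inv {r w : V} (hrr : h r r = 0) (hrw : h r w = 0) {m : F} {g : GL (Fin 4) F}
    (e : IsE q r w m g) : IsE q r (-w) (-m - h w w) g⁻¹ := fun x => by
  have hwr := h_zero (hF := hF) hrw
  have hx : (g : M4) *ᵥ (x + h x r • (-w) - h x (-w) • r + ((-m - h w w) * h x r) • r) = x := by
    rw [e]
    simp only [← neg_one_smul F w, h_add_left, h_sub_left, h_smul_left, h_smul_right hF, hrr, hrw, hwr,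
      map_neg, map_one]
    module
  conv_lhs => rw [← hx]
  rw [inv_mulVec]

theorem IsE.conj {r w : V} {m : F} {g k : GL (Fin 4) F} (hk : k ∈ G) (e : IsE q r w m g) :
    IsE q ((k : M4) *ᵥ r) ((k : M4) *ᵥ w) m (k * g * k⁻¹) := fun x => by
  obtain ⟨y, rfl⟩ : ∃ y, (k : M4) *ᵥ y = x := ⟨_, mul_inv_mulVec k x⟩
  rw [Units.val_mul, Units.val_mul, ← Matrix.mulVec_mulVec, ← Matrix.mulVec_mulVec, inv_mulVec, e y]
  simp only [Matrix.mulVec_add, Matrix.mulVec_sub, Matrix.mulVec_smul, G_isometry hk]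

/-- The real Eichler elements. -/
theorem exists_E (S : Real4 hF F₀ P) {r r' e₁ e₂ : V} (B : Frame q F₀ P r r' e₁ e₂) {a b : F}
    (ha : a ∈ F₀) (hb : b ∈ F₀) :
    ∃ g ∈ subfieldSubgroup F₀ P ⊓ G,
      IsE q r (a • e₁ + b • e₂) (-(h (a • e₁ + b • e₂) (a • e₁ + b • e₂)) / 2) g := by
  have h2 := two_ne S
  have single : ∀ {s : V}, IsR F₀ P s → h r s = 0 → (h s s = 0 → s = 0) →
      ∃ g ∈ subfieldSubgroup F₀ P ⊓ G, IsE q r s (-(h s s) / 2) g := by
    intro s hs hrs haniso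
    by_cases hs0 : s = 0
    · exact ⟨1, one_mem _, fun x => by
        simp [hs0, h_zero_left (hF := hF), h_zero_right (hF := hF)]⟩
    have hss : h s s ≠ 0 := fun e => hs0 (haniso e)
    have hsr := h_zero (hF := hF) hrs
    have hκ : h s s / 2 ∈ F₀ := F₀.div_mem (h_rat S hs hs) (two_mem S)
    have hz : IsR F₀ P (s + (h s s / 2) • r) := hs.add (B.rr.smul hκ)
    have hzz : h (s + (h s s / 2) • r) (s + (h s s / 2) • r) = h s s := by
      simp only [h_add_left, h_add_right hF, h_smul_left, h_smul_right hF, B.sing, hrs, hsr]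
      ring
    obtain ⟨g, hg, hact, -⟩ := exists_refl S hs hz hss (by rw [hzz]; exact hss)
    refine ⟨g, hg, fun x => ?_⟩
    rw [hact x, hzz]
    simp only [h_sub_left, h_add_left, h_add_right hF, h_smul_left, h_smul_right hF, B.sing, hrs, hsr,
      fixed S hκ]
    match_scalars <;> field_simp <;> ring
  obtain ⟨g, hg, eg⟩ := single (B.re₁.smul ha) (by rw [h_smul_right hF, B.o₁, mul_zero]) fun e => by
    rw [h_smul_left, h_smul_right hF, fixed S ha, ← mul_assoc, mul_eq_zero, or_iff_left B.n₁,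
      mul_self_eq_zero] at e
    rw [e, zero_smul]
  obtain ⟨g', hg', eg'⟩ := single (B.re₂.smul hb) (by rw [h_smul_right hF, B.o₂, mul_zero]) fun e => by
    rw [h_smul_left, h_smul_right hF, fixed S hb, ← mul_assoc, mul_eq_zero, or_iff_left B.n₂,
      mul_self_eq_zero] at e
    rw [e, zero_smul]
  refine ⟨g * g', mul_mem hg hg', ?_⟩
  have := IsE.mul (hF := hF) B.sing (by rw [h_smul_right hF, B.o₁, mul_zero])
    (by rw [h_smul_right hF, B.o₂, mul_zero]) eg eg'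
  convert this using 1
  simp only [h_add_left, h_add_right hF, h_smul_left, h_smul_right hF, B.o, h_zero (hF := hF) B.o]
  field_simp
  ring

/-- The real torus of a frame. -/
theorem exists_torus (S : Real4 hF F₀ P) {r r' e₁ e₂ : V} (B : Frame q F₀ P r r' e₁ e₂) {l : F}
    (hl : l ∈ F₀) (hl0 : l ≠ 0) :
    ∃ d ∈ subfieldSubgroup F₀ P ⊓ G,
      ∀ x, (d : M4) *ᵥ x = x + ((l - 1) * h x r') • r + ((l⁻¹ - 1) * h x r) • r' := by
  obtain ⟨a1, a2, a3, a4, -⟩ := B.vals (hF := hF)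
  have h2 := two_ne S
  have hz : IsR F₀ P (r - r') := B.rr.sub B.rr'
  have hzz : h (r - r') (r - r') = -2 := by
    simp only [h_sub_left, h_sub_right hF, a1, a2, a3, a4]; ring
  have hz' : IsR F₀ P (r - l • r') := B.rr.sub (B.rr'.smul hl)
  have hzz' : h (r - l • r') (r - l • r') = -(2 * l) := by
    simp only [h_sub_left, h_sub_right hF, h_smul_left, h_smul_right hF, a1, a2, a3, a4, fixed S hl]
    ring
  obtain ⟨d, hd, hact, -⟩ := exists_refl S hz hz' (by rw [hzz]; exact neg_ne_zero.2 h2)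
    (by rw [hzz']; exact neg_ne_zero.2 (mul_ne_zero h2 hl0))
  refine ⟨d, hd, fun x => ?_⟩
  rw [hact x, hzz, hzz']
  simp only [h_sub_left, h_sub_right hF, h_smul_left, h_smul_right hF, a1, a2, a3, a4, fixed S hl]
  match_scalars <;> field_simp <;> ring

/-- The swap of a frame. -/
theorem exists_swap (S : Real4 hF F₀ P) {r r' e₁ e₂ : V} (B : Frame q F₀ P r r' e₁ e₂) :
    ∃ d ∈ subfieldSubgroup F₀ P ⊓ G, (d : M4) *ᵥ r = r' := by
  obtain ⟨a1, a2, a3, a4, a5, a6, a7, a8, a9, b1, b2, b3, b4, b5⟩ := B.vals (hF := hF)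
  have h2 := two_ne S
  have hzz : h (r - r') (r - r') = -2 := by
    simp only [h_sub_left, h_sub_right hF, a1, a2, a3, a4]; ring
  obtain ⟨d, hd, hact, -⟩ := exists_refl S (B.rr.sub B.rr') B.re₁ (by rw [hzz]; exact neg_ne_zero.2 h2) B.n₁
  refine ⟨d, hd, ?_⟩
  rw [hact r, hzz]
  simp only [h_sub_left, h_sub_right hF, h_smul_left, a1, a3, a5, mul_zero, zero_smul, sub_zero]
  match_scalars <;> field_simp <;> ring

/-- Real singular vectors are permuted transitively. -/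
theorem exists_conn (S : Real4 hF F₀ P) {a b : V} (ha : IsR F₀ P a) (haa : h a a = 0) (ha0 : a ≠ 0)
    (hb : IsR F₀ P b) (hbb : h b b = 0) (hb0 : b ≠ 0) :
    ∃ k ∈ subfieldSubgroup F₀ P ⊓ G, (k : M4) *ᵥ a = b := by
  have h2 := two_ne S
  have near : ∀ {a b : V}, IsR F₀ P a → h a a = 0 → a ≠ 0 → IsR F₀ P b → h b b = 0 → h b a ≠ 0 →
      ∃ k ∈ subfieldSubgroup F₀ P ⊓ G, (k : M4) *ᵥ a = b := by
    intro a b ha haa ha0 hb hbb hba
    obtain ⟨a', e₁, e₂, B⟩ := exists_frame S ha ha0 haa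
    obtain ⟨a1, a2, a3, a4, a5, a6, a7, a8, a9, b1, b2, b3, b4, b5⟩ := B.vals (hF := hF)
    obtain ⟨c, hc⟩ : ∃ c, c = h b a := ⟨_, rfl⟩
    have hcm : c ∈ F₀ := hc ▸ h_rat S hb ha
    have hc0 : c ≠ 0 := hc ▸ hba
    obtain ⟨u, hu⟩ : ∃ u, u = h b e₁ / h e₁ e₁ / c := ⟨_, rfl⟩
    obtain ⟨v, hv⟩ : ∃ v, v = h b e₂ / h e₂ e₂ / c := ⟨_, rfl⟩
    have hum : u ∈ F₀ := hu ▸ F₀.div_mem (F₀.div_mem (h_rat S hb B.re₁) (h_rat S B.re₁ B.re₁)) hcm
    have hvm : v ∈ F₀ := hv ▸ F₀.div_mem (F₀.div_mem (h_rat S hb B.re₂) (h_rat S B.re₂ B.re₂)) hcm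
    obtain ⟨E, hE, eE⟩ := exists_E S B hum hvm
    obtain ⟨W, hW, eW⟩ := exists_swap S B
    obtain ⟨D, hD, eD⟩ := exists_torus S B hcm hc0
    refine ⟨E * W * D, mul_mem (mul_mem hE hW) hD, ?_⟩
    rw [Units.val_mul, Units.val_mul, ← Matrix.mulVec_mulVec, ← Matrix.mulVec_mulVec, eD, a1, a3, mul_one,
      mul_zero, zero_smul, add_zero, show a + (c - 1) • a = c • a by module, Matrix.mulVec_smul, eW,
      Matrix.mulVec_smul, eE]
    have hbe := B.expand (hF := hF) b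
    rw [← hc, show h b e₁ / h e₁ e₁ = c * u by rw [hu, mul_div_cancel₀ _ hc0],
      show h b e₂ / h e₂ e₂ = c * v by rw [hv, mul_div_cancel₀ _ hc0]] at hbe
    have hiso := hbb
    rw [hbe] at hiso
    simp only [h_add_left, h_add_right hF, h_smul_left, h_smul_right hF, a1, a2, a3, a4, a5, a6, a7, a8,
      a9, b1, b2, b3, b4, b5, map_mul, fixed S hum, fixed S hvm, fixed S hcm,
      fixed S (h_rat S hb B.rr')] at hiso
    conv_rhs => rw [hbe]
    rw [show h b a' = -(c * (u * u * h e₁ e₁ + v * v * h e₂ e₂)) / 2 by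
      rw [eq_div_iff h2]
      refine mul_left_cancel₀ hc0 ?_
      linear_combination hiso]
    simp only [h_add_left, h_add_right hF, h_smul_left, h_smul_right hF, fixed S hum, fixed S hvm, a4, a7,
      a8, b4, b5]
    match_scalars <;> field_simp <;> ring
  by_cases hba : h b a = 0
  swap
  · exact near ha haa ha0 hb hbb hba
  obtain ⟨a', e₁, e₂, B⟩ := exists_frame S ha ha0 haa
  obtain ⟨a1, a2, a3, a4, a5, a6, a7, a8, a9, b1, b2, b3, b4, b5⟩ := B.vals (hF := hF)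
  obtain ⟨m, hm, hmm, hma, hmb⟩ : ∃ m, IsR F₀ P m ∧ h m m = 0 ∧ h m a = 1 ∧ h b m ≠ 0 := by
    by_contra hc
    push Not at hc
    have hb' : h b a' = 0 := hc a' B.rr' a2 a4
    have key : ∀ e, IsR F₀ P e → h a e = 0 → h a' e = 0 → h b e = 0 := fun e he hae hae' => by
      have hκ : -(h e e) / 2 ∈ F₀ := F₀.div_mem (F₀.neg_mem (h_rat S he he)) (two_mem S)
      have hea := h_zero (hF := hF) hae
      have hea' := h_zero (hF := hF) hae'
      have e1 := hc (a' + e + (-(h e e) / 2) • a) ((B.rr'.add he).add (ha.smul hκ))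
        (by
          simp only [h_add_left, h_add_right hF, h_smul_left, h_smul_right hF, a1, a2, a3, a4, hae, hae',
            hea, hea', fixed S hκ]
          field_simp
          ring)
        (by simp only [h_add_left, h_smul_left, a1, a4, hea, mul_zero, add_zero])
      simpa [h_add_right hF, h_smul_right hF, hb', hba] using e1
    exact hb0 (B.ext (hF := hF) (x := b) (y := 0)
      (by rw [hba, h_zero_left (hF := hF)]) (by rw [hb', h_zero_left (hF := hF)])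
      (by rw [key e₁ B.re₁ a5 a7, h_zero_left (hF := hF)])
      (by rw [key e₂ B.re₂ a6 a8, h_zero_left (hF := hF)]))
  have hm0 : m ≠ 0 := fun e => one_ne_zero (α := F) (by rw [← hma, e, h_zero_left (hF := hF)])
  obtain ⟨k₁, hk₁, e1⟩ := near ha haa ha0 hm hmm (by rw [hma]; exact one_ne_zero)
  obtain ⟨k₂, hk₂, e2⟩ := near hm hmm hm0 hb hbb hmb
  exact ⟨k₂ * k₁, mul_mem hk₂ hk₁, by rw [Units.val_mul, ← Matrix.mulVec_mulVec, e1, e2]⟩

/-- A real scalar with square not one. -/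
theorem exists_real_sq (S : Real4 hF F₀ P) : ∃ l ∈ F₀, l ≠ 0 ∧ l * l ≠ 1 := by
  obtain ⟨g, hg⟩ := IsCyclic.exists_ofOrder_eq_natCard (α := Fˣ)
  rw [Nat.card_units, Nat.card_eq_fintype_card, hF] at hg
  refine ⟨(g : F) * σ (g : F), mem_fixed S (by rw [map_mul, frob_frob hF, mul_comm]),
    mul_ne_zero (Units.ne_zero g) ((map_ne_zero σ).2 (Units.ne_zero g)), fun e => ?_⟩
  have h1 : g ^ (2 * (q + 1)) = 1 := Units.ext (by
    rw [Units.val_pow_eq_pow_val, Units.val_one, ← e, frob_apply, two_mul, pow_add, pow_succ'])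
  have h2 := Nat.le_of_dvd (by omega) (orderOf_dvd_of_pow_eq_one h1)
  rw [hg] at h2
  have := S.five
  have : 5 * q ≤ q ^ 2 := by rw [sq]; exact Nat.mul_le_mul_right q S.five
  omega

/-- An element fixing a real singular point, outside the subfield subgroup, gives a transvection. -/
theorem wit_of_fix (O : Over hF F₀ P K) {k : GL (Fin 4) F} (hk : k ∈ K)
    (hout : k ∉ subfieldSubgroup F₀ P) {r r' e₁ e₂ : V} (B : Frame q F₀ P r r' e₁ e₂) {ρ : F}
    (hkr : (k : M4) *ᵥ r = ρ • r) : ∃ c : F, c ≠ 0 ∧ c + σ c = 0 ∧ InT q K r c := by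
  have S := O.str
  have h2 := two_ne S
  obtain ⟨a1, a2, a3, a4, a5, a6, a7, a8, a9, b1, b2, b3, b4, b5⟩ := B.vals (hF := hF)
  by_contra hc
  push Not at hc
  have hnoT : ∀ {c : F}, c + σ c = 0 → InT q K r c → c = 0 := fun {c} hcs hT => by
    by_contra h0
    exact hc c h0 hcs hT
  -- Eichler elements of the overgroup are real
  have key : ∀ {w : V} {m : F} {g : GL (Fin 4) F}, g ∈ K → IsE q r w m g → h r w = 0 → h r' w = 0 →
      IsR F₀ P w ∧ σ m = m := by
    intro w m g hg eg hrw hr'w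
    have hreal : ∀ t a b : F, a ∈ F₀ → b ∈ F₀ → t = h w (a • e₁ + b • e₂) → σ t = t := by
      intro t a b ha hb ht
      obtain ⟨gt, hgt, et⟩ := exists_E S B ha hb
      obtain ⟨s, hs⟩ : ∃ s, s = a • e₁ + b • e₂ := ⟨_, rfl⟩
      rw [← hs] at ht et
      have hrs : h r s = 0 := by simp [hs, h_add_right hF, h_smul_right hF, a5, a6]
      have h12 := IsE.mul (hF := hF) a1 hrw hrs eg et
      have h21 := IsE.mul (hF := hF) a1 hrs hrw et eg
      suffices hT : InT q K r (h w s - h s w) by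
        have hz := sub_eq_zero.1 (hnoT (by rw [map_sub, h_swap hF, h_swap hF]; ring) hT)
        rw [ht, h_swap hF]
        exact hz.symm
      refine ⟨g * gt * (gt * g)⁻¹,
        mul_mem (mul_mem hg (O.ge hgt)) (inv_mem (mul_mem (O.ge hgt) hg)), ?_⟩
      intro x
      · obtain ⟨y, hy⟩ : ∃ y, ((gt * g : GL (Fin 4) F) : M4) *ᵥ y = x := ⟨_, mul_inv_mulVec _ x⟩
        rw [Units.val_mul _ (gt * g)⁻¹, ← Matrix.mulVec_mulVec]
        conv_lhs => rw [← hy, inv_mulVec, h12 y]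
        rw [← hy, h21 y]
        simp only [h_add_left, h_sub_left, h_add_right hF, h_smul_left, h_zero (hF := hF) hrw,
          h_zero (hF := hF) hrs, a1]
        module
    have v1 : h w e₁ ∈ F₀ := mem_fixed S (hreal _ 1 0 F₀.one_mem F₀.zero_mem (by
      rw [one_smul, zero_smul, add_zero]))
    have v2 : h w e₂ ∈ F₀ := mem_fixed S (hreal _ 0 1 F₀.zero_mem F₀.one_mem (by
      rw [one_smul, zero_smul, zero_add]))
    have ha : h w e₁ / h e₁ e₁ ∈ F₀ := F₀.div_mem v1 (h_rat S B.re₁ B.re₁)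
    have hb : h w e₂ / h e₂ e₂ ∈ F₀ := F₀.div_mem v2 (h_rat S B.re₂ B.re₂)
    have hw : w = (h w e₁ / h e₁ e₁) • e₁ + (h w e₂ / h e₂ e₂) • e₂ := by
      conv_lhs => rw [B.expand (hF := hF) w, h_zero (hF := hF) hrw, h_zero (hF := hF) hr'w]
      simp
    have hwR : IsR F₀ P w := hw ▸ (B.re₁.smul ha).add (B.re₂.smul hb)
    refine ⟨hwR, ?_⟩
    obtain ⟨gt, hgt, et⟩ := exists_E S B ha hb
    rw [← hw] at et
    have hmul := IsE.mul (hF := hF) a1 hrw (show h r (-w) = 0 by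
      rw [← neg_one_smul F w, h_smul_right hF, hrw, mul_zero]) eg (IsE.inv (hF := hF) a1 hrw et)
    have hww : σ (h w w) = h w w := h_swap hF w w
    have hmz : m + h w w / 2 = 0 := by
      refine hnoT ?_ ⟨_, mul_mem hg (inv_mem (O.ge hgt)), fun x => ?_⟩
      · have e1 := G_isometry (O.le hg) r' r'
        rw [eg] at e1
        simp only [h_add_left, h_sub_left, h_add_right hF, h_sub_right hF, h_smul_left, h_smul_right hF,
          a1, a2, a3, a4, hrw, hr'w, h_zero (hF := hF) hrw, h_zero (hF := hF) hr'w, map_mul, map_one,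
          map_zero] at e1
        rw [map_add, map_div₀, hww, fixed S (two_mem S)]
        field_simp
        linear_combination (2 : F) * e1
      · rw [hmul x]
        simp only [← neg_one_smul F w, h_smul_left, h_add_right hF, h_smul_right hF, map_neg, map_one]
        match_scalars <;> first | ring1 | (field_simp; ring)
    rw [show m = -(h w w / 2) by linear_combination hmz, map_neg, map_div₀, hww, fixed S (two_mem S)]
  have hρ0 : ρ ≠ 0 := fun e => by
    rw [e, zero_smul] at hkr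
    have e1 : r = 0 := Matrix.mulVec_injective_iff_isUnit.2 k.isUnit (hkr.trans (Matrix.mulVec_zero _).symm)
    exact one_ne_zero (α := F) (by rw [← a3, e1, h_zero_left (hF := hF)])
  have hsρ0 : σ ρ ≠ 0 := (map_ne_zero σ).2 hρ0
  have hki := G_isometry (O.le hk)
  -- the images of the middle vectors
  have himg : ∀ e, IsR F₀ P e → h r e = 0 → h r' e = 0 →
      (∃ a ∈ F₀, ∃ b ∈ F₀, e = a • e₁ + b • e₂) → ∃ w, IsR F₀ P w ∧ (k : M4) *ᵥ e = ρ • w := by
    rintro e he hre hr'e ⟨a, ha, b, hb, hab⟩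
    obtain ⟨g, hg, eg⟩ := exists_E S B ha hb
    rw [← hab] at eg
    have hconj := IsE.conj (hF := hF) (O.le hk) eg
    obtain ⟨f, hf⟩ : ∃ f, f = (k : M4) *ᵥ e := ⟨_, rfl⟩
    rw [← hf] at hconj ⊢
    have hfr : h f r = 0 := by
      have e1 : h ((k : M4) *ᵥ e) ((k : M4) *ᵥ r) = 0 := by rw [hki, h_zero (hF := hF) hre]
      rwa [hkr, ← hf, h_smul_right hF, mul_eq_zero, or_iff_right hsρ0] at e1
    obtain ⟨p, hp⟩ : ∃ p, p = h f r' := ⟨_, rfl⟩
    obtain ⟨we, hwe⟩ : ∃ we, we = (h f e₁ / h e₁ e₁) • e₁ + (h f e₂ / h e₂ e₂) • e₂ := ⟨_, rfl⟩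
    have hfe : f = p • r + we := by
      conv_lhs => rw [B.expand (hF := hF) f, hfr, ← hp]
      rw [hwe]; module
    rw [hkr] at hconj
    obtain ⟨hwR, hm⟩ := key (w := σ ρ • we)
      (m := σ ρ * p - ρ * σ p + -(h e e) / 2 * (ρ * σ ρ))
      (mul_mem (mul_mem hk (O.ge hg)) (inv_mem hk)) (fun x => by
        rw [hconj x, hfe]
        simp only [h_add_right hF, h_smul_right hF, frob_frob hF]
        module)
      (by simp [hwe, h_smul_right hF, h_add_right hF, a5, a6])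
      (by simp [hwe, h_smul_right hF, h_add_right hF, a7, a8])
    have hee : σ (h e e) = h e e := h_swap hF e e
    have hp' : ρ * σ p = σ ρ * p := by
      simp only [map_add, map_sub, map_mul, map_neg, map_div₀, frob_frob hF, hee, fixed S (two_mem S)] at hm
      refine mul_left_cancel₀ h2 ?_
      linear_combination hm
    have hpm : p / ρ ∈ F₀ := mem_fixed S (by
      rw [map_div₀, div_eq_div_iff hsρ0 hρ0]; linear_combination hp')
    have hN : ρ * σ ρ ∈ F₀ := mem_fixed S (by rw [map_mul, frob_frob hF, mul_comm])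
    refine ⟨(p / ρ) • r + (ρ * σ ρ)⁻¹ • (σ ρ • we), (B.rr.smul hpm).add (hwR.smul (F₀.inv_mem hN)), ?_⟩
    rw [hfe, smul_add, smul_smul, smul_smul, smul_smul, mul_div_cancel₀ _ hρ0,
      show ρ * (ρ * σ ρ)⁻¹ * σ ρ = 1 by field_simp, one_smul]
  -- the image of the second vector
  obtain ⟨l, hl, hl0, hl2⟩ := exists_real_sq S
  obtain ⟨d, hd, ed⟩ := exists_torus S B hl hl0
  obtain ⟨d', hd', ed'⟩ := exists_torus S B (F₀.inv_mem hl) (inv_ne_zero hl0)
  simp only [inv_inv] at ed'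
  obtain ⟨f, hf⟩ : ∃ f, f = (k : M4) *ᵥ r' := ⟨_, rfl⟩
  have hfr : σ ρ * h f r = 1 := by
    rw [← h_smul_right hF, ← hkr, hf, hki, a4]
  obtain ⟨α, hα⟩ : ∃ α, α = h f r := ⟨_, rfl⟩
  rw [← hα] at hfr
  obtain ⟨τ, hτ⟩ : ∃ τ, τ = h f r' := ⟨_, rfl⟩
  obtain ⟨w₀, hw₀⟩ : ∃ w₀, w₀ = (h f e₁ / h e₁ e₁) • e₁ + (h f e₂ / h e₂ e₂) • e₂ := ⟨_, rfl⟩
  have hfe : f = τ • r + α • r' + w₀ := by
    conv_lhs => rw [B.expand (hF := hF) f, ← hα, ← hτ]
    rw [hw₀]; module
  have hw₀r : h w₀ r = 0 := by simp [hw₀, h_add_left, h_smul_left, a9, b1]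
  have hw₀r' : h w₀ r' = 0 := by simp [hw₀, h_add_left, h_smul_left, b2, b3]
  have hlv : ρ * σ α = 1 := by
    have := congrArg σ hfr
    rwa [map_mul, frob_frob hF, map_one] at this
  obtain ⟨hwR, hm⟩ := key (w := ((l⁻¹ - 1) * σ ρ) • w₀)
    (m := l⁻¹ * ((l - 1) * (ρ * σ τ) + (l⁻¹ - 1) * (σ ρ * τ)))
    (mul_mem (O.ge hd') (mul_mem (mul_mem hk (O.ge hd)) (inv_mem hk))) (fun x => by
      obtain ⟨y, hy⟩ : ∃ y, (k : M4) *ᵥ y = x := ⟨_, mul_inv_mulVec k x⟩
      simp only [Units.val_mul, ← Matrix.mulVec_mulVec]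
      have q1 : h y r' = h x f := by rw [← hy, hf, hki]
      have q2 : h y r = σ ρ * h x r := by rw [← h_smul_right hF, ← hkr, ← hy, hki]
      conv_lhs => rw [← hy, inv_mulVec, ed y]
      simp only [Matrix.mulVec_add, Matrix.mulVec_smul]
      rw [← hf, hkr, hy, q1, q2, hfe]
      simp only [Matrix.mulVec_add, Matrix.mulVec_smul, ed']
      simp only [h_add_left, h_smul_left, h_add_right hF, h_smul_right hF, a1, a2, a3, a4, hw₀r, hw₀r',
        map_mul, map_sub, map_one, map_inv₀, fixed S hl, frob_frob hF]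
      match_scalars <;>
        first
          | ring1
          | (field_simp; ring1)
          | (field_simp; linear_combination (l ^ 2 - l) * h x r' * hlv)
          | (field_simp; linear_combination (l - l ^ 2) * h x r' * hlv)
          | (field_simp; linear_combination (l ^ 2 - l) * h x r * hfr)
          | (field_simp; linear_combination (l - l ^ 2) * h x r * hfr))
    (by rw [h_smul_right hF, h_zero (hF := hF) hw₀r, mul_zero])
    (by rw [h_smul_right hF, h_zero (hF := hF) hw₀r', mul_zero])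
  have hl1 : l⁻¹ - 1 ≠ 0 := fun e => hl2 (by
    have : l = 1 := inv_eq_one.1 (sub_eq_zero.1 e)
    rw [this, mul_one])
  have hX : ρ * σ τ = σ ρ * τ := by
    simp only [map_mul, map_add, map_sub, map_one, map_inv₀, frob_frob hF, fixed S hl] at hm
    refine mul_left_cancel₀ (mul_ne_zero (inv_ne_zero hl0) (show (l⁻¹ - 1) - (l - 1) ≠ 0 from fun e => hl2 (by
      have : l⁻¹ = l := by linear_combination e
      nth_rewrite 1 [← this]; rw [inv_mul_cancel₀ hl0]))) ?_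
    linear_combination hm
  have hN : ρ * σ ρ ∈ F₀ := mem_fixed S (by rw [map_mul, frob_frob hF, mul_comm])
  have hτm : τ / ρ ∈ F₀ := mem_fixed S (by
    rw [map_div₀, div_eq_div_iff hsρ0 hρ0]; linear_combination hX)
  refine hout (B.mem S hρ0 (fun v hv => ?_))
  rcases hv with e | e | e | e <;> rw [e]
  · exact ⟨_, B.rr, hkr⟩
  · refine ⟨(τ / ρ) • r + (ρ * σ ρ)⁻¹ • r' +
      ((l⁻¹ - 1) * (ρ * σ ρ))⁻¹ • (((l⁻¹ - 1) * σ ρ) • w₀),
      ((B.rr.smul hτm).add (B.rr'.smul (F₀.inv_mem hN))).add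
        (hwR.smul (F₀.inv_mem (F₀.mul_mem (F₀.sub_mem (F₀.inv_mem hl) F₀.one_mem) hN))), ?_⟩
    rw [← hf, hfe, smul_add, smul_add, smul_smul, smul_smul, smul_smul, smul_smul, mul_div_cancel₀ _ hρ0,
      show ρ * (ρ * σ ρ)⁻¹ = α by field_simp; linear_combination -hfr,
      show ρ * ((l⁻¹ - 1) * (ρ * σ ρ))⁻¹ * ((l⁻¹ - 1) * σ ρ) = 1 by
        rw [show ρ * ((l⁻¹ - 1) * (ρ * σ ρ))⁻¹ * ((l⁻¹ - 1) * σ ρ) = ((l⁻¹ - 1) * (ρ * σ ρ)) / ((l⁻¹ - 1) * (ρ * σ ρ)) by ring,
          div_self (mul_ne_zero hl1 (mul_ne_zero hρ0 hsρ0))], one_smul]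
  · exact himg _ B.re₁ a5 a7 ⟨1, F₀.one_mem, 0, F₀.zero_mem, by module⟩
  · exact himg _ B.re₂ a6 a8 ⟨0, F₀.zero_mem, 1, F₀.one_mem, by module⟩

/-- A transvection at a real singular point gives every isotropic centre. -/
theorem ctr_of_wit (O : Over hF F₀ P K) {r₀ : V} (hr₀ : IsR F₀ P r₀) (hr₀r₀ : h r₀ r₀ = 0) (hr₀0 : r₀ ≠ 0)
    {c₀ : F} (hc₀ : c₀ ≠ 0) (hc₀s : c₀ + σ c₀ = 0) (hT : InT q K r₀ c₀) {z : V} (hzz : h z z = 0) :
    Ctr hF K z := by
  have S := O.str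
  have h2 := two_ne S
  obtain ⟨r₁, e₁, e₂, B⟩ := exists_frame S hr₀ hr₀0 hr₀r₀
  have hsq : ∀ l ∈ F₀, InT q K r₀ (l * l * c₀) := fun l hl => by
    by_cases hl0 : l = 0
    · exact ⟨1, K.one_mem, fun x => by simp [hl0]⟩
    obtain ⟨d, hd, ed⟩ := exists_torus S B hl hl0
    obtain ⟨g, hg, eg⟩ := hT
    refine ⟨d * g * d⁻¹, mul_mem (mul_mem (O.ge hd) hg) (inv_mem (O.ge hd)), fun x => ?_⟩
    have edr : (d : M4) *ᵥ r₀ = l • r₀ := by
      rw [ed, B.sing, B.one]; module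
    obtain ⟨y, rfl⟩ : ∃ y, (d : M4) *ᵥ y = x := ⟨_, mul_inv_mulVec d x⟩
    rw [Units.val_mul, Units.val_mul, ← Matrix.mulVec_mulVec, ← Matrix.mulVec_mulVec, inv_mulVec, eg y,
      Matrix.mulVec_add, Matrix.mulVec_smul, edr, ← G_isometry hd.2 y r₀, edr, h_smul_right hF, fixed S hl]
    module
  have hC0 : Ctr hF K r₀ := PairSU.ctr_of_inT fun c hc => by
    have hm : c / c₀ ∈ F₀ := mem_fixed S (by
      rw [map_div₀, eq_neg_of_add_eq_zero_right hc, eq_neg_of_add_eq_zero_right hc₀s, neg_div_neg_eq])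
    obtain ⟨g1, hg1, e1⟩ := hsq _ (F₀.div_mem (F₀.add_mem hm F₀.one_mem) (two_mem S))
    obtain ⟨g2, hg2, e2⟩ := hsq _ (F₀.div_mem (F₀.sub_mem hm F₀.one_mem) (two_mem S))
    refine ⟨g1 * g2⁻¹, mul_mem hg1 (inv_mem hg2), fun x => ?_⟩
    obtain ⟨y, rfl⟩ : ∃ y, (g2 : M4) *ᵥ y = x := ⟨_, mul_inv_mulVec g2 x⟩
    rw [Units.val_mul, ← Matrix.mulVec_mulVec, inv_mulVec, e1 y, e2 y, h_add_left, h_smul_left, hr₀r₀,
      mul_zero, add_zero]
    match_scalars <;> field_simp <;> ring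
  have hC : ∀ v, IsR F₀ P v → h v v = 0 → Ctr hF K v := fun v hv hvv => by
    by_cases hv0 : v = 0
    · rw [hv0, ← zero_smul F r₀]; exact hC0.smul 0
    obtain ⟨k, hk, e⟩ := exists_conn S hr₀ hr₀r₀ hr₀0 hv hvv hv0
    exact e ▸ hC0.conj (O.ge hk) hk.2
  by_cases hz0 : z = 0
  · rw [hz0, ← zero_smul F r₀]; exact hC0.smul 0
  obtain ⟨r, hr, hrr, hzr⟩ : ∃ r, IsR F₀ P r ∧ h r r = 0 ∧ h z r ≠ 0 := by
    by_contra hc
    push Not at hc
    have z1 := hc r₀ hr₀ hr₀r₀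
    have z2 := hc r₁ B.rr' B.sing'
    obtain ⟨a1, a2, a3, a4, a5, a6, a7, a8, a9, b1, b2, b3, b4, b5⟩ := B.vals (hF := hF)
    have key : ∀ e, IsR F₀ P e → h r₀ e = 0 → h r₁ e = 0 → h z e = 0 := fun e he h0e h1e => by
      have hκ : -(h e e) / 2 ∈ F₀ := F₀.div_mem (F₀.neg_mem (h_rat S he he)) (two_mem S)
      have e1 := hc (r₁ + e + (-(h e e) / 2) • r₀) ((B.rr'.add he).add (hr₀.smul hκ)) (by
        simp only [h_add_left, h_add_right hF, h_smul_left, h_smul_right hF, a1, a2, a3, a4, h0e, h1e,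
          h_zero (hF := hF) h0e, h_zero (hF := hF) h1e, fixed S hκ]
        field_simp
        ring)
      simpa [h_add_right hF, h_smul_right hF, z1, z2] using e1
    exact hz0 (B.ext (hF := hF) (x := z) (y := 0) (by rw [z1, h_zero_left (hF := hF)])
      (by rw [z2, h_zero_left (hF := hF)])
      (by rw [key e₁ B.re₁ a5 a7, h_zero_left (hF := hF)])
      (by rw [key e₂ B.re₂ a6 a8, h_zero_left (hF := hF)]))
  have hr0 : r ≠ 0 := fun e => hzr (by rw [e, h_zero_right (hF := hF)])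
  obtain ⟨r', f₁, f₂, B'⟩ := exists_frame S hr hr0 hrr
  obtain ⟨a1, a2, a3, a4, a5, a6, a7, a8, a9, b1, b2, b3, b4, b5⟩ := B'.vals (hF := hF)
  -- nonreal Eichler elements
  have hall : ∀ a b : F, InE q K r (a • f₁ + b • f₂) := by
    obtain ⟨ε, hε0, hεs⟩ := exists_skew hF
    have hε : σ ε = -ε := by linear_combination hεs
    intro a b
    obtain ⟨p, hp, p', hp', ha⟩ := split_scalar S hε hε0 a
    obtain ⟨t, ht, t', ht', hb⟩ := split_scalar S hε hε0 b
    obtain ⟨g, hg, eg⟩ := exists_E S B' hp ht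
    obtain ⟨g', hg', eg'⟩ := exists_E S (B'.swap (hF := hF)) (F₀.neg_mem hp') (F₀.neg_mem ht')
    obtain ⟨T, hTG, eT⟩ := exists_T (hF := hF) a1 hεs
    have hεi : (-ε⁻¹ : F) + σ (-ε⁻¹) = 0 := by rw [map_neg, map_inv₀, hε]; simp
    obtain ⟨U, hUG, eU⟩ := exists_T (hF := hF) a2 hεi
    have hTK : T ∈ K := hC r hr hrr T ε hεs (Matrix.ext_of_mulVec_single fun i => by rw [eT, tmat_mulVec])
    have hUK : U ∈ K := hC r' B'.rr' a2 U _ hεi (Matrix.ext_of_mulVec_single fun i => by rw [eU, tmat_mulVec])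
    have hW : ∀ x, ((T * U * T : GL (Fin 4) F) : M4) *ᵥ x =
        (T : M4) *ᵥ ((U : M4) *ᵥ ((T : M4) *ᵥ x)) := fun x => by
      simp only [Units.val_mul, ← Matrix.mulVec_mulVec]
    have hWr' : ((T * U * T : GL (Fin 4) F) : M4) *ᵥ r' = ε • r := by
      rw [hW, eT r', a4, eU, h_add_left, h_smul_left, a2, a3, eT]
      simp only [h_add_left, h_smul_left, a1, a4]
      match_scalars <;> field_simp <;> ring
    have hWf : ∀ f, h f r = 0 → h f r' = 0 → ((T * U * T : GL (Fin 4) F) : M4) *ᵥ f = f := fun f c1 c2 => by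
      rw [hW, eT f, c1, mul_zero, zero_smul, add_zero, eU f, c2, mul_zero, zero_smul, add_zero, eT f, c1,
        mul_zero, zero_smul, add_zero]
    have hWG : T * U * T ∈ G := mul_mem (mul_mem hTG hUG) hTG
    have hconj := IsE.conj (hF := hF) hWG eg'
    rw [hWr', hWf _ (by simp only [h_add_left, h_smul_left, a9, b1, mul_zero, add_zero]) (by simp only [h_add_left, h_smul_left, b2, b3, mul_zero, add_zero])]
      at hconj
    have hskew : IsE q r (σ ε • ((-p') • f₁ + (-t') • f₂))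
        (ε * σ ε * (-(h ((-p') • f₁ + (-t') • f₂) ((-p') • f₁ + (-t') • f₂)) / 2))
        ((T * U * T) * g' * (T * U * T)⁻¹) := fun x => by
      rw [hconj x]
      simp only [h_smul_right hF, frob_frob hF]
      module
    have := IsE.mul (hF := hF) a1
      (show h r (p • f₁ + t • f₂) = 0 by simp [h_add_right hF, h_smul_right hF, a5, a6])
      (show h r (σ ε • ((-p') • f₁ + (-t') • f₂)) = 0 by
        simp only [h_add_right hF, h_smul_right hF, a5, a6, mul_zero, add_zero]) eg hskew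
    rw [show a • f₁ + b • f₂ = p • f₁ + t • f₂ + σ ε • ((-p') • f₁ + (-t') • f₂) by
      rw [ha, hb, hε]; module]
    exact ⟨_, mul_mem (O.ge hg) (mul_mem (mul_mem (mul_mem (mul_mem hTK hUK) hTK) (O.ge hg'))
      (inv_mem (mul_mem (mul_mem hTK hUK) hTK))), _, this⟩
  obtain ⟨z₁, hz₁⟩ : ∃ z₁, z₁ = (h z r)⁻¹ • z := ⟨_, rfl⟩
  refine Ctr.of_smul (a := (h z r)⁻¹) (inv_ne_zero hzr) ?_
  rw [← hz₁]
  have hz₁r : h z₁ r = 1 := by rw [hz₁, h_smul_left, inv_mul_cancel₀ hzr]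
  have hz₁z₁ : h z₁ z₁ = 0 := by rw [hz₁, h_smul_left, h_smul_right hF, hzz, mul_zero, mul_zero]
  obtain ⟨g, hg, m, eg⟩ := hall (h z₁ f₁ / h f₁ f₁) (h z₁ f₂ / h f₂ f₂)
  obtain ⟨w, hw⟩ : ∃ w, w = (h z₁ f₁ / h f₁ f₁) • f₁ + (h z₁ f₂ / h f₂ f₂) • f₂ := ⟨_, rfl⟩
  rw [← hw] at eg
  obtain ⟨τ, hτ⟩ : ∃ τ, τ = h z₁ r' := ⟨_, rfl⟩
  have hze : z₁ = τ • r + r' + w := by
    conv_lhs => rw [B'.expand (hF := hF) z₁, hz₁r, ← hτ, one_smul, add_assoc, ← hw]
  have hrw : h r w = 0 := by simp [hw, h_add_right hF, h_smul_right hF, a5, a6]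
  have hr'w : h r' w = 0 := by simp [hw, h_add_right hF, h_smul_right hF, a7, a8]
  have hgr' : (g : M4) *ᵥ r' = r' + w + m • r := by
    rw [eg, a4, hr'w]; module
  have hδ : (τ - m) + σ (τ - m) = 0 := by
    have e1 := hz₁z₁
    have e2 := G_isometry (O.le hg) r' r'
    rw [hze] at e1
    rw [hgr'] at e2
    simp only [h_add_left, h_add_right hF, h_smul_left, h_smul_right hF, a1, a2, a3, a4, hrw, hr'w,
      h_zero (hF := hF) hrw, h_zero (hF := hF) hr'w] at e1 e2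
    rw [map_sub]
    linear_combination e1 - e2
  obtain ⟨T, hTG, eT⟩ := exists_T (hF := hF) hrr hδ
  have hTK : T ∈ K := hC r hr hrr T _ hδ (Matrix.ext_of_mulVec_single fun i => by rw [eT, tmat_mulVec])
  have := (hC r' B'.rr' a2).conj (mul_mem hTK hg) (mul_mem hTG (O.le hg))
  rw [Units.val_mul, ← Matrix.mulVec_mulVec, hgr', eT] at this
  convert this using 1
  rw [hze]
  simp only [h_add_left, h_smul_left, a1, a4, h_zero (hF := hF) hrw]
  module

end CfsgLib.MaxSub.SUFour.OFour
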