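/-
A moved real singular point perpendicular to a real one.
-/
import Cfsg.Agent.Lib.MaxSub.SUFour.OFour.Win

set_option autoImplicit false
set_option maxHeartbeats 800000
set_option linter.unusedSectionVars false

namespace CfsgLib.MaxSub.SUFour.OFour

open Matrix Module Cfsg Cfsg.Geo CfsgLib.UnitaryTransvection CfsgLib.MaxSub.Rational
open CfsgLib.MaxSub.SubfieldGU (IsR col_rat eq_zero_of_values)
open CfsgLib.MaxSub.PairSU (IsS exists_S gl_ext h_zero)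

variable {F : Type*} [Field F] [Fintype F] {q : ℕ} {hF : Fintype.card F = q ^ 2}
  {F₀ : Subfield F} {P : GL (Fin 4) F} {K : Subgroup (GL (Fin 4) F)}

local notation "V" => Fin 4 → F
local notation "h" => Cfsg.hermForm 4 F q
local notation "σ" => frob hF
local notation "M4" => Matrix (Fin 4) (Fin 4) F
local notation "G" => Cfsg.GU 4 F q ⊓ specialLinear (Fin 4) F

include hF

/-- A scalar keeping a nonzero real singular vector real is real. -/
theorem mem_of_smul (S : Real4 hF F₀ P) {r r' e₁ e₂ : V} (B : Frame q F₀ P r r' e₁ e₂) {c : F}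
    (hc : IsR F₀ P (c • r)) : c ∈ F₀ := by
  have := h_rat S hc B.rr'
  rwa [h_smul_left, B.one, mul_one] at this

/-- A scalar of multiplicative order more than the real ones. -/
theorem exists_big (S : Real4 hF F₀ P) : ∃ t : F, t ≠ 0 ∧ t * t * t ≠ σ t := by
  obtain ⟨g, hg⟩ := IsCyclic.exists_ofOrder_eq_natCard (α := Fˣ)
  rw [Nat.card_units, Nat.card_eq_fintype_card, hF] at hg
  refine ⟨g, Units.ne_zero g, fun e => ?_⟩
  obtain ⟨k, hk⟩ : ∃ k, q = k + 3 := ⟨q - 3, by have := S.five; omega⟩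
  have h1 : g ^ k = 1 := Units.ext (by
    rw [Units.val_pow_eq_pow_val, Units.val_one]
    refine mul_left_cancel₀ (pow_ne_zero 3 (Units.ne_zero g)) ?_
    rw [← pow_add, mul_one, show 3 + k = q by omega, ← frob_apply hF, ← e]
    ring)
  have h5 := S.five
  have h2 := Nat.le_of_dvd (by omega) (orderOf_dvd_of_pow_eq_one h1)
  rw [hg] at h2
  have : 5 * q ≤ q ^ 2 := by rw [sq]; exact Nat.mul_le_mul_right q S.five
  omega

/-- A moved real singular point perpendicular to a real one, off the real lines through it. -/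
theorem fix_of_perp (O : Over hF F₀ P K) {g : GL (Fin 4) F} (hg : g ∈ K) {r₀ r₀' f₁ f₂ : V}
    (B₀ : Frame q F₀ P r₀ r₀' f₁ f₂) {r r' e₁ e₂ : V} (B : Frame q F₀ P r r' e₁ e₂)
    (hxr : h ((g : M4) *ᵥ r₀) r = 0)
    (hne : h ((g : M4) *ᵥ r₀) e₁ * σ (h ((g : M4) *ᵥ r₀) e₂) ≠
      h ((g : M4) *ᵥ r₀) e₂ * σ (h ((g : M4) *ᵥ r₀) e₁)) :
    ∃ k ∈ K, k ∉ subfieldSubgroup F₀ P ∧ ∃ ρ : F, (k : M4) *ᵥ r = ρ • r := by
  have S := O.str
  obtain ⟨a1, a2, a3, a4, a5, a6, a7, a8, a9, b1, b2, b3, b4, b5⟩ := B.vals (hF := hF)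
  have hgi := G_isometry (O.le hg)
  obtain ⟨x, hx⟩ : ∃ x, x = (g : M4) *ᵥ r₀ := ⟨_, rfl⟩
  rw [← hx] at hxr hne
  have hxx : h x x = 0 := by rw [hx, hgi, B₀.sing]
  obtain ⟨g₁, hg₁⟩ : ∃ g₁, g₁ = h x e₁ := ⟨_, rfl⟩
  obtain ⟨g₂, hg₂⟩ : ∃ g₂, g₂ = h x e₂ := ⟨_, rfl⟩
  rw [← hg₁, ← hg₂] at hne
  have hden : g₁ * σ g₂ - g₂ * σ g₁ ≠ 0 := sub_ne_zero.2 hne
  have hg₁0 : g₁ ≠ 0 := fun e => hne (by rw [e]; simp)
  -- all the upper elements
  have hX : ∀ l : F, ∃ k ∈ K, (k : M4) *ᵥ r = r ∧ (k : M4) *ᵥ x = x + l • r := fun l => by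
    obtain ⟨a, ha⟩ : ∃ a, a = (σ l * g₂ - l * σ g₂) / (g₁ * σ g₂ - g₂ * σ g₁) := ⟨_, rfl⟩
    obtain ⟨b, hb⟩ : ∃ b, b = (l * σ g₁ - σ l * g₁) / (g₁ * σ g₂ - g₂ * σ g₁) := ⟨_, rfl⟩
    have ham : a ∈ F₀ := mem_fixed S (by
      rw [ha, map_div₀]; simp only [map_sub, map_mul, frob_frob hF]
      rw [← neg_div_neg_eq]; congr 1 <;> ring)
    have hbm : b ∈ F₀ := mem_fixed S (by
      rw [hb, map_div₀]; simp only [map_sub, map_mul, frob_frob hF]
      rw [← neg_div_neg_eq]; congr 1 <;> ring)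
    obtain ⟨k, hk, ek⟩ := exists_E S B ham hbm
    refine ⟨k, O.ge hk, ?_, ?_⟩
    · rw [ek]
      simp only [h_add_right hF, h_smul_right hF, a1, a5, a6, mul_zero, add_zero, zero_smul, sub_zero]
    · have hxs : h x (a • e₁ + b • e₂) = -l := by
        rw [h_add_right hF, h_smul_right hF, h_smul_right hF, ← hg₁, ← hg₂, fixed S ham, fixed S hbm, ha, hb,
          div_mul_eq_mul_div, div_mul_eq_mul_div, ← add_div, div_eq_iff hden]
        ring
      rw [ek, hxr, hxs]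
      module
  -- a lower element
  obtain ⟨y, hy⟩ : ∃ y, y = ((g⁻¹ : GL (Fin 4) F) : M4) *ᵥ r := ⟨_, rfl⟩
  have hgy : (g : M4) *ᵥ y = r := by rw [hy, mul_inv_mulVec]
  have hyr₀ : h y r₀ = 0 := by rw [← hgi, hgy, ← hx]; exact h_zero (hF := hF) hxr
  obtain ⟨p, p', hp, hp', hye⟩ : ∃ p p' : F, p ∈ F₀ ∧ p' ∈ F₀ ∧ h y (p • f₁ + p' • f₂) ≠ 0 := by
    by_contra hc
    push Not at hc
    have y1 := hc 1 0 F₀.one_mem F₀.zero_mem
    have y2 := hc 0 1 F₀.zero_mem F₀.one_mem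
    simp only [one_smul, zero_smul, add_zero, zero_add] at y1 y2
    have e := B₀.expand (hF := hF) y
    rw [hyr₀, y1, y2] at e
    simp only [zero_smul, zero_div, add_zero] at e
    have e' := congrArg (fun z => (g : M4) *ᵥ z) e
    simp only [hgy, Matrix.mulVec_smul, ← hx] at e'
    have ha0 : h y r₀' ≠ 0 := fun e0 => one_ne_zero (α := F) (by
      rw [← a3, e', e0, zero_smul, h_zero_left (hF := hF)])
    have := congrArg (fun z => h z e₁) e'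
    simp only [h_smul_left, a5, ← hg₁] at this
    exact mul_ne_zero ha0 hg₁0 this.symm
  obtain ⟨E, hE, eE⟩ := exists_E S B₀ hp hp'
  obtain ⟨ν, hν⟩ : ∃ ν, ν = -h y (p • f₁ + p' • f₂) := ⟨_, rfl⟩
  have hν0 : ν ≠ 0 := hν ▸ neg_ne_zero.2 hye
  have hY : ∃ k ∈ K, (k : M4) *ᵥ x = x ∧ (k : M4) *ᵥ r = r + ν • x := by
    refine ⟨g * E * g⁻¹, mul_mem (mul_mem hg (O.ge hE)) (inv_mem hg), ?_, ?_⟩
    · simp only [Units.val_mul, ← Matrix.mulVec_mulVec, hx, inv_mulVec]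
      rw [eE]
      simp only [B₀.sing, h_add_right hF, h_smul_right hF, B₀.o₁, B₀.o₂, mul_zero, add_zero, zero_smul,
        sub_zero]
    · simp only [Units.val_mul, ← Matrix.mulVec_mulVec, ← hy]
      rw [eE, hyr₀, hν, hx]
      simp only [Matrix.mulVec_add, Matrix.mulVec_sub, Matrix.mulVec_smul, hgy]
      module
  -- the Weyl element and all lower elements
  obtain ⟨kY, hkY, eYx, eYr⟩ := hY
  obtain ⟨kX, hkX, eXr, eXx⟩ := hX (-ν⁻¹)
  have hW1 : ((kX * kY * kX : GL (Fin 4) F) : M4) *ᵥ x = (-ν⁻¹) • r := by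
    simp only [Units.val_mul, ← Matrix.mulVec_mulVec, eXx, Matrix.mulVec_add, Matrix.mulVec_smul, eYx, eYr,
      eXr, smul_add]
    match_scalars <;> field_simp <;> ring
  have hW2 : ((kX * kY * kX : GL (Fin 4) F) : M4) *ᵥ r = ν • x := by
    simp only [Units.val_mul, ← Matrix.mulVec_mulVec, eXr, eYr, Matrix.mulVec_add, Matrix.mulVec_smul, eXx,
      smul_add]
    match_scalars <;> field_simp <;> ring
  have hYall : ∀ l : F, ∃ k ∈ K, (k : M4) *ᵥ x = x ∧ (k : M4) *ᵥ r = r + l • x := fun l => by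
    obtain ⟨k, hk, ekr, ekx⟩ := hX (l * (-ν⁻¹) / ν)
    have hwK : kX * kY * kX ∈ K := mul_mem (mul_mem hkX hkY) hkX
    refine ⟨(kX * kY * kX) * k * (kX * kY * kX)⁻¹, mul_mem (mul_mem hwK hk) (inv_mem hwK), ?_, ?_⟩
    · have e : (((kX * kY * kX)⁻¹ : GL (Fin 4) F) : M4) *ᵥ x = ν⁻¹ • r := by
        have := congrArg (fun z => (((kX * kY * kX)⁻¹ : GL (Fin 4) F) : M4) *ᵥ z) hW2
        simp only [inv_mulVec, Matrix.mulVec_smul] at this
        conv_rhs => rw [this, smul_smul, inv_mul_cancel₀ hν0, one_smul]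
      rw [Units.val_mul _ (kX * kY * kX)⁻¹, ← Matrix.mulVec_mulVec, e, Units.val_mul _ k,
        ← Matrix.mulVec_mulVec, Matrix.mulVec_smul, ekr, Matrix.mulVec_smul, hW2, smul_smul,
        inv_mul_cancel₀ hν0, one_smul]
    · have e : (((kX * kY * kX)⁻¹ : GL (Fin 4) F) : M4) *ᵥ r = (-ν) • x := by
        have := congrArg (fun z => (((kX * kY * kX)⁻¹ : GL (Fin 4) F) : M4) *ᵥ z) hW1
        simp only [inv_mulVec, Matrix.mulVec_smul] at this
        conv_rhs => rw [this, smul_smul]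
        rw [show -ν * -ν⁻¹ = 1 by field_simp, one_smul]
      rw [Units.val_mul _ (kX * kY * kX)⁻¹, ← Matrix.mulVec_mulVec, e, Units.val_mul _ k,
        ← Matrix.mulVec_mulVec, Matrix.mulVec_smul, ekx, Matrix.mulVec_smul, Matrix.mulVec_add,
        Matrix.mulVec_smul, hW1, hW2]
      match_scalars <;> field_simp <;> ring
  -- the torus
  obtain ⟨t, ht0, ht⟩ := exists_big S
  obtain ⟨u1, hu1, u1r, u1x⟩ := hX (-t⁻¹)
  obtain ⟨v1, hv1, v1x, v1r⟩ := hYall t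
  obtain ⟨u2, hu2, u2r, u2x⟩ := hX 1
  obtain ⟨v2, hv2, v2x, v2r⟩ := hYall (-1)
  obtain ⟨D, hD⟩ : ∃ D, D = u1 * v1 * u1 * (u2 * v2 * u2) := ⟨_, rfl⟩
  have hDK : D ∈ K := hD ▸ mul_mem (mul_mem (mul_mem hu1 hv1) hu1) (mul_mem (mul_mem hu2 hv2) hu2)
  have hDr : (D : M4) *ᵥ r = t⁻¹ • r := by
    simp only [hD, Units.val_mul, ← Matrix.mulVec_mulVec, u2r, v2r, Matrix.mulVec_add, Matrix.mulVec_smul,
      u2x, u1r, u1x, v1r, v1x, smul_add]
    match_scalars <;> field_simp <;> ring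
  have hDx : (D : M4) *ᵥ x = t • x := by
    simp only [hD, Units.val_mul, ← Matrix.mulVec_mulVec, u2r, u2x, v2r, v2x, Matrix.mulVec_add,
      Matrix.mulVec_smul, u1r, u1x, v1r, v1x, smul_add]
    match_scalars <;> field_simp <;> ring
  refine ⟨D, hDK, fun hmem => ?_, t⁻¹, hDr⟩
  obtain ⟨c, hc0, hmaps⟩ := maps_of_mem (hF := hF) hmem
  have hDi := G_isometry (O.le hDK)
  obtain ⟨w, hw, hwr⟩ := hmaps r B.rr
  have hρ : c⁻¹ * t⁻¹ ∈ F₀ := mem_of_smul S B (by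
    rw [← smul_smul, ← hDr, hwr, smul_smul, inv_mul_cancel₀ hc0, one_smul]; exact hw)
  obtain ⟨w₁, hw₁, hD1⟩ := hmaps e₁ B.re₁
  obtain ⟨w₂, hw₂, hD2⟩ := hmaps e₂ B.re₂
  have hperp : ∀ {e v : V}, h e r = 0 → (D : M4) *ᵥ e = c • v → h v r = 0 := fun {e v} he hv => by
    have := hDi e r
    rw [hv, hDr, h_smul_left, h_smul_right hF, he] at this
    exact ((mul_eq_zero.1 this).resolve_left hc0 |> mul_eq_zero.1).resolve_left ((map_ne_zero σ).2 (inv_ne_zero ht0))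
  have h1r := hperp a9 hD1
  have h2r := hperp b1 hD2
  have hN : ∀ {e e' v v' : V}, (D : M4) *ᵥ e = c • v → (D : M4) *ᵥ e' = c • v' →
      c * σ c * h v v' = h e e' := fun {e e' v v'} ev ev' => by
    have := hDi e e'
    rw [ev, ev', h_smul_left, h_smul_right hF, ← mul_assoc] at this
    exact this
  have hv : ∀ v, IsR F₀ P v → h v r = 0 → ∀ v', IsR F₀ P v' → h v' r = 0 →
      h v v' = h v e₁ * h v' e₁ / h e₁ e₁ + h v e₂ * h v' e₂ / h e₂ e₂ := fun v hv hvr v' hv' hv'r => by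
    conv_lhs => rw [B.expand (hF := hF) v, hvr]
    simp only [h_add_left, h_smul_left, h_zero (hF := hF) hv'r, ← h_symm S hv' B.re₁, ← h_symm S hv' B.re₂]
    ring
  have n11 := hN hD1 hD1
  have n12 := hN hD1 hD2
  have n22 := hN hD2 hD2
  rw [hv _ hw₁ h1r _ hw₁ h1r] at n11
  rw [hv _ hw₁ h1r _ hw₂ h2r, b4] at n12
  rw [hv _ hw₂ h2r _ hw₂ h2r] at n22
  have hxexp := B.expand (hF := hF) x
  rw [hxr, ← hg₁, ← hg₂, zero_smul, add_zero] at hxexp
  have hDx' : t • x = h x r' • (t⁻¹ • r) + (g₁ / h e₁ e₁) • (c • w₁) + (g₂ / h e₂ e₂) • (c • w₂) := by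
    conv_lhs => rw [← hDx, hxexp]
    rw [Matrix.mulVec_add, Matrix.mulVec_add, Matrix.mulVec_smul, Matrix.mulVec_smul, Matrix.mulVec_smul,
      hDr, hD1, hD2]
  have k1 := congrArg (fun z => h z e₁) hDx'
  have k2 := congrArg (fun z => h z e₂) hDx'
  simp only [h_add_left, h_smul_left, a5, a6, ← hg₁, ← hg₂, mul_zero, zero_add] at k1 k2
  have m1 := B.n₁
  have m2 := B.n₂
  obtain ⟨μ₁, hμ₁⟩ : ∃ μ, μ = h e₁ e₁ := ⟨_, rfl⟩
  obtain ⟨μ₂, hμ₂⟩ : ∃ μ, μ = h e₂ e₂ := ⟨_, rfl⟩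
  rw [← hμ₁] at k1 k2 n11 n12 n22 m1
  rw [← hμ₂] at k1 k2 n11 n12 n22 m2
  have hσμ : σ μ₁ = μ₁ ∧ σ μ₂ = μ₂ := ⟨by rw [hμ₁]; exact h_swap hF _ _, by rw [hμ₂]; exact h_swap hF _ _⟩
  -- the square sum of the values
  have hS0 : g₁ * g₁ / μ₁ + g₂ * g₂ / μ₂ ≠ 0 := fun e => by
    have hiso := hxx
    conv at hiso => lhs; arg 4; rw [hxexp]
    rw [h_add_left, h_add_left, h_smul_left, h_smul_left, h_smul_left, ← h_swap hF x r, hxr, map_zero,
      ← h_swap hF x e₁, ← h_swap hF x e₂, ← hg₁, ← hg₂, ← hμ₁, ← hμ₂, mul_zero, zero_add] at hiso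
    field_simp at e hiso
    have hg₂0 : g₂ ≠ 0 := fun e' => hne (by rw [e']; simp)
    refine hden (mul_left_cancel₀ (mul_ne_zero (mul_ne_zero hg₁0 hg₂0) m1) ?_)
    rw [mul_zero]
    linear_combination g₁ * g₁ * hiso - g₁ * σ g₁ * e
  have hS : t * t * (g₁ * g₁ / μ₁ + g₂ * g₂ / μ₂) = c / σ c * (g₁ * g₁ / μ₁ + g₂ * g₂ / μ₂) := by
    have hsc : σ c ≠ 0 := (map_ne_zero σ).2 hc0
    calc t * t * (g₁ * g₁ / μ₁ + g₂ * g₂ / μ₂) = (t * g₁) * (t * g₁) / μ₁ + (t * g₂) * (t * g₂) / μ₂ := by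
          ring
      _ = _ := by
          rw [k1, k2]
          have n11' : h w₁ e₁ * h w₁ e₁ / μ₁ + h w₁ e₂ * h w₁ e₂ / μ₂ = μ₁ / (c * σ c) := by
            rw [eq_div_iff (mul_ne_zero hc0 hsc), mul_comm]; exact n11
          have n12' : h w₁ e₁ * h w₂ e₁ / μ₁ + h w₁ e₂ * h w₂ e₂ / μ₂ = 0 :=
            (mul_eq_zero.1 n12).resolve_left (mul_ne_zero hc0 hsc)
          have n22' : h w₂ e₁ * h w₂ e₁ / μ₁ + h w₂ e₂ * h w₂ e₂ / μ₂ = μ₂ / (c * σ c) := by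
            rw [eq_div_iff (mul_ne_zero hc0 hsc), mul_comm]; exact n22
          linear_combination (norm := (field_simp; ring)) (g₁ / μ₁ * c) * (g₁ / μ₁ * c) * n11' +
            2 * (g₁ / μ₁ * c) * (g₂ / μ₂ * c) * n12' + (g₂ / μ₂ * c) * (g₂ / μ₂ * c) * n22'
  have hsq := mul_right_cancel₀ hS0 hS
  have hfix := fixed S hρ
  rw [map_mul, map_inv₀, map_inv₀] at hfix
  refine ht ?_
  have hsc : σ c ≠ 0 := (map_ne_zero σ).2 hc0
  have hst : σ t ≠ 0 := (map_ne_zero σ).2 ht0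
  field_simp at hsq hfix
  refine mul_left_cancel₀ hsc ?_
  linear_combination t * hsq + hfix

end CfsgLib.MaxSub.SUFour.OFour
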