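/-
A moved real singular point on a real singular line.
-/
import Cfsg.Agent.Lib.MaxSub.SUFour.OFour.Perp

set_option autoImplicit false
set_option maxHeartbeats 800000
set_option linter.unusedSectionVars false

namespace CfsgLib.MaxSub.SUFour.OFour

open Matrix Module Cfsg Cfsg.Geo CfsgLib.UnitaryTransvection CfsgLib.MaxSub.Rational
open CfsgLib.MaxSub.SubfieldGU (IsR col_rat eq_zero_of_values)
open CfsgLib.MaxSub.PairSU (IsS exists_S h_zero)

variable {F : Type*} [Field F] [Fintype F] {q : ℕ} {hF : Fintype.card F = q ^ 2}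
  {F₀ : Subfield F} {P : GL (Fin 4) F} {K : Subgroup (GL (Fin 4) F)}

local notation "V" => Fin 4 → F
local notation "h" => Cfsg.hermForm 4 F q
local notation "σ" => frob hF
local notation "M4" => Matrix (Fin 4) (Fin 4) F
local notation "G" => Cfsg.GU 4 F q ⊓ specialLinear (Fin 4) F

include hF

/-- The trace from an expansion. -/
theorem trace_of_expand {b d : Fin 4 → V} (he : ∀ x, x = ∑ i, h x (d i) • b i) (M : M4) :
    M.trace = ∑ i, h (M *ᵥ b i) (d i) := by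
  have hdiag : ∀ j, M j j = ∑ i, h (Pi.single j 1) (d i) * (M *ᵥ b i) j := fun j => by
    have e := congrArg (fun y => (M *ᵥ y) j) (he (Pi.single j (1 : F)))
    simp only [Matrix.mulVec_single_one, Matrix.col_apply, Matrix.mulVec_sum, Matrix.mulVec_smul,
      Finset.sum_apply, Pi.smul_apply, smul_eq_mul] at e
    exact e
  have hlin : ∀ z y : V, ∑ j, h (Pi.single j (1 : F)) z * y j = h y z := fun z y => by
    conv_rhs => rw [pi_eq_sum_univ' y, h_sum_left (hF := hF)]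
    exact Finset.sum_congr rfl fun j _ => by rw [h_smul_left, mul_comm]
  simp only [Matrix.trace, Matrix.diag, hdiag]
  rw [Finset.sum_comm]
  exact Finset.sum_congr rfl fun i _ => hlin _ _

/-- The partner of a real singular vector inside the middle of a frame. -/
theorem exists_hyp (S : Real4 hF F₀ P) {r r' e₁ e₂ : V} (B : Frame q F₀ P r r' e₁ e₂) {s : V}
    (hs : IsR F₀ P s) (hs0 : s ≠ 0) (hsr : h s r = 0) (hsr' : h s r' = 0) (hss : h s s = 0) :
    ∃ s', IsR F₀ P s' ∧ h s' r = 0 ∧ h s' r' = 0 ∧ h s' s' = 0 ∧ h s s' = 1 ∧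
      ∀ x, x = h x r' • r + h x r • r' + h x s' • s + h x s • s' := by
  obtain ⟨a1, a2, a3, a4, a5, a6, a7, a8, a9, b1, b2, b3, b4, b5⟩ := B.vals (hF := hF)
  have h2 := two_ne S
  obtain ⟨μ₁, hμ₁⟩ : ∃ μ, μ = h e₁ e₁ := ⟨_, rfl⟩
  obtain ⟨μ₂, hμ₂⟩ : ∃ μ, μ = h e₂ e₂ := ⟨_, rfl⟩
  have m1 : μ₁ ≠ 0 := hμ₁ ▸ B.n₁
  have m2 : μ₂ ≠ 0 := hμ₂ ▸ B.n₂
  obtain ⟨a, ha⟩ : ∃ a, a = h s e₁ / μ₁ := ⟨_, rfl⟩
  obtain ⟨b, hb⟩ : ∃ b, b = h s e₂ / μ₂ := ⟨_, rfl⟩
  have ham : a ∈ F₀ := ha ▸ F₀.div_mem (h_rat S hs B.re₁) (hμ₁ ▸ h_rat S B.re₁ B.re₁)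
  have hbm : b ∈ F₀ := hb ▸ F₀.div_mem (h_rat S hs B.re₂) (hμ₂ ▸ h_rat S B.re₂ B.re₂)
  have hse : s = a • e₁ + b • e₂ := by
    conv_lhs => rw [B.expand (hF := hF) s, hsr, hsr', ← hμ₁, ← hμ₂, ← ha, ← hb]
    simp
  have hab : a * a * μ₁ + b * b * μ₂ = 0 := by
    have := hss
    rw [hse] at this
    simp only [h_add_left, h_add_right hF, h_smul_left, h_smul_right hF, b4, b5, fixed S ham, fixed S hbm,
      ← hμ₁, ← hμ₂] at this
    linear_combination this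
  have ha0 : a ≠ 0 := fun e => hs0 (by
    rw [e, zero_mul, zero_mul, zero_add, mul_eq_zero, or_iff_left m2, mul_self_eq_zero] at hab
    rw [hse, e, hab, zero_smul, zero_smul, add_zero])
  obtain ⟨κ, hκ⟩ : ∃ κ, κ = (2 * (a * a * μ₁))⁻¹ := ⟨_, rfl⟩
  have hκm : κ ∈ F₀ := hκ ▸ F₀.inv_mem (F₀.mul_mem (two_mem S) (F₀.mul_mem (F₀.mul_mem ham ham)
    (hμ₁ ▸ h_rat S B.re₁ B.re₁)))
  have hκ1 : 2 * (a * a * μ₁) * κ = 1 := by
    rw [hκ]; exact mul_inv_cancel₀ (mul_ne_zero h2 (mul_ne_zero (mul_ne_zero ha0 ha0) m1))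
  refine ⟨(κ * a) • e₁ + (-(κ * b)) • e₂, (B.re₁.smul (F₀.mul_mem hκm ham)).add
    (B.re₂.smul (F₀.neg_mem (F₀.mul_mem hκm hbm))), ?_, ?_, ?_, ?_, fun x => ?_⟩
  · simp only [h_add_left, h_smul_left, a9, b1, mul_zero, add_zero]
  · simp only [h_add_left, h_smul_left, b2, b3, mul_zero, add_zero]
  · simp only [h_add_left, h_add_right hF, h_smul_left, h_smul_right hF, b4, b5, map_mul, map_neg,
      fixed S ham, fixed S hbm, fixed S hκm, ← hμ₁, ← hμ₂]
    linear_combination κ * κ * hab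
  · rw [hse]
    simp only [h_add_left, h_add_right hF, h_smul_left, h_smul_right hF, b4, b5, map_mul, map_neg,
      fixed S ham, fixed S hbm, fixed S hκm, ← hμ₁, ← hμ₂]
    linear_combination hκ1 - κ * hab
  · refine B.ext (hF := hF) ?_ ?_ ?_ ?_ <;>
      simp only [hse, h_add_left, h_add_right hF, h_smul_left, h_smul_right hF, map_mul, map_neg, fixed S ham,
        fixed S hbm, fixed S hκm, a1, a2, a3, a4, a5, a6, a7, a8, a9, b1, b2, b3, b4, b5, ← hμ₁, ← hμ₂]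
    · ring
    · ring
    · linear_combination -(h x e₁) * hκ1
    · linear_combination -(h x e₂) * hκ1 + 2 * κ * h x e₂ * hab

/-- A norm one scalar with nonzero trace, not a sign. -/
theorem exists_rot (S : Real4 hF F₀ P) : ∃ ξ : F, ξ * σ ξ = 1 ∧ ξ + σ ξ ≠ 0 ∧ ξ * ξ ≠ 1 := by
  obtain ⟨ζ, hζ⟩ := UnitaryBasic.exists_zeta hF
  have hn : (ζ : F) * σ (ζ : F) = 1 := by
    rw [frob_apply, ← pow_succ', ← Units.val_pow_eq_pow_val, ← hζ, pow_orderOf_eq_one, Units.val_one]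
  have hord : ∀ k : ℕ, 0 < k → k ≤ 4 → (ζ : F) ^ k ≠ 1 := fun k hk hk4 e => by
    have h1 : ζ ^ k = 1 := Units.ext (by rw [Units.val_pow_eq_pow_val, e, Units.val_one])
    have := Nat.le_of_dvd hk (orderOf_dvd_of_pow_eq_one h1)
    have := S.five
    omega
  refine ⟨ζ, hn, fun e => hord 4 (by norm_num) le_rfl ?_, fun e => hord 2 two_pos (by norm_num) (by rw [sq, e])⟩
  have h1 : (ζ : F) * (ζ : F) = -1 := by linear_combination (ζ : F) * e - hn
  rw [show (4 : ℕ) = 2 + 2 from rfl, pow_add, sq, h1]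
  ring

/-- A moved real singular point on a real line through two real singular points. -/
theorem fix_of_line (O : Over hF F₀ P K) {g : GL (Fin 4) F} (hg : g ∈ K) {r₀ r₀' f₁ f₂ : V}
    (B₀ : Frame q F₀ P r₀ r₀' f₁ f₂) {r r' e₁ e₂ : V} (B : Frame q F₀ P r r' e₁ e₂) {s : V}
    (hs : IsR F₀ P s) (hs0 : s ≠ 0) (hsr : h s r = 0) (hsr' : h s r' = 0) (hss : h s s = 0) {α β : F}
    (hx : (g : M4) *ᵥ r₀ = α • r + β • s) (hne : α * σ β ≠ β * σ α) :
    ∃ k ∈ K, k ∉ subfieldSubgroup F₀ P ∧ ∃ ρ : F, (k : M4) *ᵥ r₀ = ρ • r₀ := by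
  have S := O.str
  obtain ⟨a1, a2, a3, a4, a5, a6, a7, a8, a9, b1, b2, b3, b4, b5⟩ := B.vals (hF := hF)
  obtain ⟨s', hs', hs'r, hs'r', hs's', hss', hexp⟩ := exists_hyp S B hs hs0 hsr hsr' hss
  have hrs := h_zero (hF := hF) hsr
  have hr's := h_zero (hF := hF) hsr'
  have hrs' := h_zero (hF := hF) hs'r
  have hr's' := h_zero (hF := hF) hs'r'
  have hs's : h s' s = 1 := by rw [← h_swap hF, hss', map_one]
  have hα0 : α ≠ 0 := fun e => hne (by rw [e]; simp)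
  obtain ⟨ω, hω⟩ : ∃ ω, ω = β / α := ⟨_, rfl⟩
  have hωσ : σ ω ≠ ω := fun e => hne (by
    rw [hω, map_div₀, div_eq_div_iff ((map_ne_zero σ).2 hα0) hα0] at e
    linear_combination e)
  obtain ⟨ξ, hξ, hξt, hξ2⟩ := exists_rot S
  have hξs : σ ξ ≠ ξ := fun e => hξ2 (by rw [e] at hξ; exact hξ)
  obtain ⟨b, hb⟩ : ∃ b, b = (ξ - σ ξ) / (ω - σ ω) := ⟨_, rfl⟩
  obtain ⟨a, ha⟩ : ∃ a, a = ξ - b * ω := ⟨_, rfl⟩
  obtain ⟨d, hd⟩ : ∃ d, d = ξ + σ ξ - a := ⟨_, rfl⟩
  obtain ⟨c, hc⟩ : ∃ c, c = ω * (ξ - d) := ⟨_, rfl⟩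
  have hwne : ω - σ ω ≠ 0 := sub_ne_zero.2 (Ne.symm hωσ)
  have hbm : b ∈ F₀ := mem_fixed S (by
    rw [hb, map_div₀, map_sub, map_sub, frob_frob hF, frob_frob hF, ← neg_sub ξ, ← neg_sub ω,
      neg_div_neg_eq])
  have hbω : b * (ω - σ ω) = ξ - σ ξ := by rw [hb, div_mul_cancel₀ _ hwne]
  have ham : a ∈ F₀ := mem_fixed S (by
    rw [ha, map_sub, map_mul, fixed S hbm]; linear_combination hbω)
  have hdm : d ∈ F₀ := mem_fixed S (by
    rw [hd, map_sub, map_add, frob_frob hF, fixed S ham]; ring)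
  have hdet : a * d - b * c = 1 := by
    rw [hc, hd, ha]; linear_combination hξ
  have hcm : c ∈ F₀ := by
    have hb0 : b ≠ 0 := by rw [hb]; exact div_ne_zero (sub_ne_zero.2 (Ne.symm hξs)) hwne
    rw [show c = (a * d - 1) / b by rw [eq_div_iff hb0]; linear_combination -hdet]
    exact F₀.div_mem (F₀.sub_mem (F₀.mul_mem ham hdm) F₀.one_mem) hbm
  have hc0 : c ≠ 0 := by
    rw [hc]
    refine mul_ne_zero (fun e => hωσ (by rw [e, map_zero])) (sub_ne_zero.2 fun e => hξs ?_)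
    rw [e, fixed S hdm]
  -- the root elements
  have root : ∀ {u v : V}, IsR F₀ P u → IsR F₀ P v → h u u = 0 → h v v = 0 → h u v = 0 →
      ∃ k ∈ K, IsS q u v k := by
    intro u v hu hv huu hvv huv
    obtain ⟨k, hkG, hk⟩ := exists_S (hF := hF) huu hvv huv
    refine ⟨k, O.ge ⟨mem_of_maps fun z hz => ?_, hkG⟩, hk⟩
    have hr : IsR F₀ P ((P : M4) *ᵥ z) := ⟨z, hz, rfl⟩
    obtain ⟨y, hy, e⟩ := (hr.add (hv.smul (h_rat S hr hu))).sub (hu.smul (h_rat S hr hv))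
    exact ⟨y, hy, by rw [hk, e]⟩
  have upper : ∀ l ∈ F₀, ∃ k ∈ K, IsS q r ((-l) • s') k := fun l hl =>
    root B.rr (hs'.smul (F₀.neg_mem hl)) a1 (by rw [h_smul_left, h_smul_right hF, hs's', mul_zero, mul_zero])
      (by rw [h_smul_right hF, hrs', mul_zero])
  obtain ⟨kL, hkL, eL⟩ := upper _ (F₀.div_mem (F₀.sub_mem ham F₀.one_mem) hcm)
  obtain ⟨kM, hkM, eM⟩ := upper _ (F₀.div_mem (F₀.sub_mem hdm F₀.one_mem) hcm)
  obtain ⟨kc, hkc, ec⟩ := root hs (B.rr'.smul (F₀.neg_mem hcm)) hss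
    (by rw [h_smul_left, h_smul_right hF, a2, mul_zero, mul_zero]) (by rw [h_smul_right hF, hsr', mul_zero])
  obtain ⟨t, ht⟩ : ∃ t, t = kL * kc * kM := ⟨_, rfl⟩
  have htK : t ∈ K := ht ▸ mul_mem (mul_mem hkL hkc) hkM
  have act : ∀ y, (t : M4) *ᵥ y = (kL : M4) *ᵥ ((kc : M4) *ᵥ ((kM : M4) *ᵥ y)) := fun y => by
    simp only [ht, Units.val_mul, ← Matrix.mulVec_mulVec]
  have hcne : σ c ≠ 0 := (map_ne_zero σ).2 hc0
  have tr' : ∀ y, (t : M4) *ᵥ y = _ := fun y => by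
    rw [act, eM y, ec, eL]
  have t1 : (t : M4) *ᵥ r = a • r + c • s := by
    rw [tr']
    simp only [h_add_left, h_sub_left, h_smul_left, h_smul_right hF, map_neg, map_div₀, map_sub, map_one,
      fixed S ham, fixed S hdm, fixed S hcm, a1, a3, a4, hsr, hsr', hrs, hr's, hrs', hr's', hs'r, hs'r',
      hs's, hss', hss, hs's']
    match_scalars <;> field_simp <;> ring
  have t2 : (t : M4) *ᵥ s = b • r + d • s := by
    rw [tr']
    simp only [h_add_left, h_sub_left, h_smul_left, h_smul_right hF, map_neg, map_div₀, map_sub, map_one,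
      fixed S ham, fixed S hdm, fixed S hcm, a1, a3, a4, hsr, hsr', hrs, hr's, hrs', hr's', hs'r, hs'r',
      hs's, hss', hss, hs's']
    match_scalars <;> field_simp <;> first | ring1 | linear_combination hdet | linear_combination -hdet | linear_combination c * hdet | linear_combination -c * hdet
  have t3 : (t : M4) *ᵥ r' = d • r' + (-b) • s' := by
    rw [tr']
    simp only [h_add_left, h_sub_left, h_smul_left, h_smul_right hF, map_neg, map_div₀, map_sub, map_one,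
      fixed S ham, fixed S hdm, fixed S hcm, a1, a2, a3, a4, hsr, hsr', hrs, hr's, hrs', hr's', hs'r, hs'r',
      hs's, hss', hss, hs's']
    match_scalars <;> field_simp <;> first | ring1 | linear_combination hdet | linear_combination -hdet | linear_combination c * hdet | linear_combination -c * hdet
  have t4 : (t : M4) *ᵥ s' = (-c) • r' + a • s' := by
    rw [tr']
    simp only [h_add_left, h_sub_left, h_smul_left, h_smul_right hF, map_neg, map_div₀, map_sub, map_one,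
      fixed S ham, fixed S hdm, fixed S hcm, a1, a2, a3, a4, hsr, hsr', hrs, hr's, hrs', hr's', hs'r, hs'r',
      hs's, hss', hss, hs's']
    match_scalars <;> field_simp <;> first | ring1 | linear_combination hdet | linear_combination -hdet | linear_combination c * hdet | linear_combination -c * hdet
  have htx : (t : M4) *ᵥ ((g : M4) *ᵥ r₀) = ξ • ((g : M4) *ᵥ r₀) := by
    rw [hx, Matrix.mulVec_add, Matrix.mulVec_smul, Matrix.mulVec_smul, t1, t2,
      show β = α * ω by rw [hω, mul_div_cancel₀ _ hα0]]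
    match_scalars
    · linear_combination α * ha
    · linear_combination α * hc
  have htr : (t : M4).trace = 2 * (ξ + σ ξ) := by
    rw [trace_of_expand (hF := hF) (b := ![r, r', s, s']) (d := ![r', r, s', s]) (fun x => by
      rw [Fin.sum_univ_four]; exact hexp x)]
    rw [Fin.sum_univ_four]
    simp only [Matrix.cons_val_zero, Matrix.cons_val_one, Matrix.cons_val, t1, t2, t3, t4, h_add_left,
      h_smul_left, a3, a4, hsr, hsr', hrs', hr's', hs'r, hs'r', hs's, hss', hr's, hrs]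
    rw [hd]; ring
  have hk : g⁻¹ * t * g ∈ K := mul_mem (mul_mem (inv_mem hg) htK) hg
  have hkr : ((g⁻¹ * t * g : GL (Fin 4) F) : M4) *ᵥ r₀ = ξ • r₀ := by
    simp only [Units.val_mul, ← Matrix.mulVec_mulVec, htx, Matrix.mulVec_smul, inv_mulVec]
  refine ⟨_, hk, fun hmem => ?_, ξ, hkr⟩
  have htrk : ((g⁻¹ * t * g : GL (Fin 4) F) : M4).trace = 2 * (ξ + σ ξ) := by
    rw [Units.val_mul, Units.val_mul, Matrix.trace_units_conj', htr]
  obtain ⟨C, hC0, hmaps⟩ := maps_of_mem (hF := hF) hmem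
  obtain ⟨w₀, hw₀, e0⟩ := hmaps r₀ B₀.rr
  obtain ⟨w₁, hw₁, e1⟩ := hmaps r₀' B₀.rr'
  obtain ⟨w₂, hw₂, e2⟩ := hmaps f₁ B₀.re₁
  obtain ⟨w₃, hw₃, e3⟩ := hmaps f₂ B₀.re₂
  rw [B₀.trace (hF := hF), e0, e1, e2, e3, h_smul_left, h_smul_left, h_smul_left, h_smul_left,
    mul_div_assoc, mul_div_assoc, ← mul_add, ← mul_add, ← mul_add] at htrk
  obtain ⟨R, hR, hRe⟩ : ∃ R ∈ F₀, C * R = 2 * (ξ + σ ξ) := ⟨_, F₀.add_mem (F₀.add_mem (F₀.add_mem
    (h_rat S hw₀ B₀.rr') (h_rat S hw₁ B₀.rr)) (F₀.div_mem (h_rat S hw₂ B₀.re₁) (h_rat S B₀.re₁ B₀.re₁)))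
    (F₀.div_mem (h_rat S hw₃ B₀.re₂) (h_rat S B₀.re₂ B₀.re₂)), htrk⟩
  have hT : 2 * (ξ + σ ξ) ∈ F₀ := mem_fixed S (by
    rw [map_mul, map_add, frob_frob hF, fixed S (two_mem S)]; ring)
  have hR0 : R ≠ 0 := fun e => mul_ne_zero (two_ne S) hξt (by rw [← hRe, e, mul_zero])
  have hCm : C ∈ F₀ := by
    rw [show C = 2 * (ξ + σ ξ) / R by rw [← hRe, mul_div_cancel_right₀ _ hR0]]
    exact F₀.div_mem hT hR
  refine hξs (fixed S (mem_of_smul S B₀ ?_))
  rw [← hkr, e0]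
  exact hw₀.smul hCm

end CfsgLib.MaxSub.SUFour.OFour
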