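/-
The orthogonal subfield subgroups are maximal in `SU_4`.
-/
import Cfsg.Agent.Lib.MaxSub.SUFour.OFour.Line
import Cfsg.Agent.Lib.Aschbacher.UnitaryProperGeneral

set_option autoImplicit false
set_option maxHeartbeats 800000
set_option linter.unusedSectionVars false

namespace CfsgLib.MaxSub.SUFour.OFour

open Matrix Module Cfsg Cfsg.Geo CfsgLib.UnitaryTransvection CfsgLib.MaxSub.Rational
open CfsgLib.MaxSub.SubfieldGU (IsR col_rat eq_zero_of_values)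
open CfsgLib.MaxSub.PairSU (h_zero)

variable {F : Type*} [Field F] [Fintype F] {q : ℕ} {hF : Fintype.card F = q ^ 2}
  {F₀ : Subfield F} {P : GL (Fin 4) F} {K : Subgroup (GL (Fin 4) F)}

local notation "V" => Fin 4 → F
local notation "h" => Cfsg.hermForm 4 F q
local notation "σ" => frob hF
local notation "M4" => Matrix (Fin 4) (Fin 4) F
local notation "G" => Cfsg.GU 4 F q ⊓ specialLinear (Fin 4) F

/-- Two orthogonal real vectors spanning no nonzero singular one. -/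
def Aniso (q : ℕ) (F₀ : Subfield F) (e₁ e₂ : Fin 4 → F) : Prop :=
  ∀ a ∈ F₀, ∀ b ∈ F₀,
    a * a * Cfsg.hermForm 4 F q e₁ e₁ + b * b * Cfsg.hermForm 4 F q e₂ e₂ = 0 → a = 0 ∧ b = 0

include hF

/-- A singular vector perpendicular to a real singular one, given a real singular line. -/
theorem exists_perp_singular (S : Real4 hF F₀ P) {u₁ u₂ r : V} (h1 : IsR F₀ P u₁) (h2 : IsR F₀ P u₂)
    (h11 : h u₁ u₁ = 0) (h22 : h u₂ u₂ = 0) (h12 : h u₁ u₂ = 0) (hu₁ : u₁ ≠ 0) (hind : ∀ c : F, u₂ ≠ c • u₁)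
    (hr : IsR F₀ P r) (hrr : h r r = 0) (hr0 : r ≠ 0) :
    ∃ z, IsR F₀ P z ∧ h z z = 0 ∧ h z r = 0 ∧ ∀ c : F, z ≠ c • r := by
  obtain ⟨p, hp⟩ : ∃ p, p = h u₁ r := ⟨_, rfl⟩
  obtain ⟨p', hp'⟩ : ∃ p', p' = h u₂ r := ⟨_, rfl⟩
  by_cases hz : p = 0 ∧ p' = 0
  · by_cases h1r : ∃ c : F, u₁ = c • r
    · refine ⟨u₂, h2, h22, hp' ▸ hz.2, fun c e => ?_⟩
      obtain ⟨c', e'⟩ := h1r
      have hc' : c' ≠ 0 := fun e0 => hu₁ (by rw [e', e0, zero_smul])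
      exact hind (c / c') (by rw [e', smul_smul, div_mul_cancel₀ _ hc', e])
    · exact ⟨u₁, h1, h11, hp ▸ hz.1, fun c e => h1r ⟨c, e⟩⟩
  have h21 := h_zero (hF := hF) h12
  have hpm : p ∈ F₀ := hp ▸ h_rat S h1 hr
  have hpm' : p' ∈ F₀ := hp' ▸ h_rat S h2 hr
  refine ⟨p' • u₁ + (-p) • u₂, (h1.smul hpm').add (h2.smul (F₀.neg_mem hpm)), ?_, ?_, fun c e => ?_⟩
  · simp only [h_add_left, h_add_right hF, h_smul_left, h_smul_right hF, h11, h22, h12, h21]; ring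
  · simp only [h_add_left, h_smul_left, ← hp, ← hp']; ring
  · have e1 := congrArg (fun y => h u₁ y) e
    have e2 := congrArg (fun y => h u₂ y) e
    simp only [h_add_right hF, h_smul_right hF, h11, h22, h12, h21, ← hp, ← hp', mul_zero, add_zero] at e1 e2
    by_cases hc : c = 0
    · rw [hc, zero_smul] at e
      by_cases hp0 : p = 0
      · rw [hp0, neg_zero, zero_smul, add_zero, smul_eq_zero, or_iff_left hu₁] at e
        exact hz ⟨hp0, e⟩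
      · refine hind (p' / p) (smul_right_injective V hp0 ?_)
        show p • u₂ = p • (p' / p) • u₁
        rw [smul_smul, mul_div_cancel₀ _ hp0, eq_neg_of_add_eq_zero_left e]
        module
    · have hsc : σ c ≠ 0 := (map_ne_zero σ).2 hc
      exact hz ⟨(mul_eq_zero.1 e1.symm).resolve_left hsc, (mul_eq_zero.1 e2.symm).resolve_left hsc⟩

/-- In a frame with anisotropic middle, perpendicular singular vectors are multiples. -/
theorem eq_smul_of_aniso (S : Real4 hF F₀ P) {r r' e₁ e₂ : V} (B : Frame q F₀ P r r' e₁ e₂)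
    (hA : Aniso q F₀ e₁ e₂) {z : V} (hz : IsR F₀ P z) (hzz : h z z = 0) (hzr : h z r = 0) :
    z = h z r' • r := by
  obtain ⟨a1, a2, a3, a4, a5, a6, a7, a8, a9, b1, b2, b3, b4, b5⟩ := B.vals (hF := hF)
  have he := B.expand (hF := hF) z
  rw [hzr, zero_smul, add_zero] at he
  have ha := F₀.div_mem (h_rat S hz B.re₁) (h_rat S B.re₁ B.re₁)
  have hb := F₀.div_mem (h_rat S hz B.re₂) (h_rat S B.re₂ B.re₂)
  obtain ⟨a, hae⟩ : ∃ a, a = h z e₁ / h e₁ e₁ := ⟨_, rfl⟩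
  obtain ⟨b, hbe⟩ : ∃ b, b = h z e₂ / h e₂ e₂ := ⟨_, rfl⟩
  rw [← hae] at ha he
  rw [← hbe] at hb he
  have h0 := hzz
  rw [he] at h0
  simp only [h_add_left, h_add_right hF, h_smul_left, h_smul_right hF, a1, a5, a6, a9, b1, b4, b5,
    fixed S ha, fixed S hb] at h0
  obtain ⟨rfl, rfl⟩ := hA a ha b hb (by linear_combination h0)
  conv_lhs => rw [he]
  simp

/-- A skew square root from an anisotropic pair, with every real norm represented. -/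
theorem exists_root (S : Real4 hF F₀ P) {e₁ e₂ : V} (he₁ : IsR F₀ P e₁) (he₂ : IsR F₀ P e₂)
    (n₁ : h e₁ e₁ ≠ 0) (n₂ : h e₂ e₂ ≠ 0) (hA : Aniso q F₀ e₁ e₂) :
    ∃ ρ : F, σ ρ = -ρ ∧ ρ ≠ 0 ∧ ρ * ρ * h e₁ e₁ = -h e₂ e₂ ∧
      ∀ M ∈ F₀, ∃ a ∈ F₀, ∃ b ∈ F₀, a * a * h e₁ e₁ + b * b * h e₂ e₂ = M := by
  have m1 := h_rat S he₁ he₁
  have m2 := h_rat S he₂ he₂
  have hx : σ (-h e₂ e₂ / h e₁ e₁) = -h e₂ e₂ / h e₁ e₁ := fixed S (F₀.div_mem (F₀.neg_mem m2) m1)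
  obtain ⟨t, ht⟩ := exists_norm_eq hF hx
  obtain ⟨k, hk⟩ := S.odd
  obtain ⟨ρ, hρdef⟩ : ∃ ρ, ρ = t ^ (k + 1) := ⟨_, rfl⟩
  have hρ : ρ * ρ = -h e₂ e₂ / h e₁ e₁ := by
    rw [hρdef, ← ht, frob_apply, ← pow_succ', hk, ← pow_add]
    ring_nf
  have hρ0 : ρ ≠ 0 := fun e => by
    rw [e, zero_mul, eq_comm, div_eq_zero_iff, neg_eq_zero] at hρ
    exact hρ.elim n₂ n₁
  have hρe : ρ * ρ * h e₁ e₁ = -h e₂ e₂ := by rw [hρ, div_mul_cancel₀ _ n₁]
  have hσρ : σ ρ = -ρ := by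
    have h0 : (σ ρ - ρ) * (σ ρ + ρ) = 0 := by
      have : σ (ρ * ρ) = ρ * ρ := by rw [hρ, hx]
      rw [map_mul] at this
      linear_combination this
    rcases mul_eq_zero.1 h0 with e | e
    · exfalso
      have hρm : ρ ∈ F₀ := mem_fixed S (sub_eq_zero.1 e)
      exact one_ne_zero (hA ρ hρm 1 F₀.one_mem (by linear_combination hρe)).2
    · exact eq_neg_of_add_eq_zero_left e
  refine ⟨ρ, hσρ, hρ0, hρe, fun M hM => ?_⟩
  obtain ⟨u, hu⟩ := exists_norm_eq hF (c := M / h e₁ e₁) (fixed S (F₀.div_mem hM m1))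
  obtain ⟨a, ha, b, hb, hab⟩ := split_scalar S hσρ hρ0 u
  refine ⟨a, ha, b, hb, ?_⟩
  rw [hab, map_add, map_mul, fixed S ha, fixed S hb, hσρ, eq_div_iff n₁] at hu
  linear_combination hu + b * b * hρe

/-- A moved point in a hyperbolic real plane with anisotropic perpendicular. -/
theorem fix_of_hyper (O : Over hF F₀ P K) {g : GL (Fin 4) F} (hg : g ∈ K) {r₀ r₀' f₁ f₂ : V}
    (B₀ : Frame q F₀ P r₀ r₀' f₁ f₂) {u₁ u₂ e₁ e₂ : V} (B : Frame q F₀ P u₁ u₂ e₁ e₂)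
    (hA : Aniso q F₀ e₁ e₂) {c ε : F} (hε : σ ε = -ε) (hε0 : ε ≠ 0)
    (hx : (g : M4) *ᵥ r₀ = c • (u₁ + ε • u₂)) :
    ∃ k ∈ K, k ∉ subfieldSubgroup F₀ P ∧ ∃ ρ : F, (k : M4) *ᵥ r₀ = ρ • r₀ := by
  have S := O.str
  have h2 := two_ne S
  obtain ⟨a1, a2, a3, a4, a5, a6, a7, a8, a9, b1, b2, b3, b4, b5⟩ := B.vals (hF := hF)
  obtain ⟨ρ, hσρ, hρ0, hρe, hrep⟩ := exists_root S B.re₁ B.re₂ B.n₁ B.n₂ hA
  obtain ⟨μ₁, hμ₁⟩ : ∃ μ, μ = h e₁ e₁ := ⟨_, rfl⟩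
  obtain ⟨μ₂, hμ₂⟩ : ∃ μ, μ = h e₂ e₂ := ⟨_, rfl⟩
  rw [← hμ₁, ← hμ₂] at hρe hrep
  have hm1 : μ₁ ∈ F₀ := hμ₁ ▸ h_rat S B.re₁ B.re₁
  have hm2 : μ₂ ∈ F₀ := hμ₂ ▸ h_rat S B.re₂ B.re₂
  have m1 : μ₁ ≠ 0 := hμ₁ ▸ B.n₁
  have hη : ε * ε ∈ F₀ := mem_fixed S (by rw [map_mul, hε]; ring)
  have h4 : (4 : F) ≠ 0 := by rw [show (4 : F) = 2 * 2 by norm_num]; exact mul_ne_zero h2 h2
  -- the multiplier
  obtain ⟨γ, hγ, hγt⟩ : ∃ γ : F, γ * σ γ = ε * ε ∧ γ + σ γ ≠ 0 := by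
    obtain ⟨γ, hγ⟩ := exists_norm_eq hF (fixed S hη)
    by_cases ht : γ + σ γ = 0
    swap
    · exact ⟨γ, hγ, ht⟩
    obtain ⟨ξ, hξ, -, hξ2⟩ := exists_rot S
    have hγ0 : γ ≠ 0 := fun e => mul_ne_zero hε0 hε0 (by rw [← hγ, e, zero_mul])
    refine ⟨ξ * γ, by rw [map_mul]; linear_combination (γ * σ γ) * hξ + hγ, fun e => hξ2 ?_⟩
    rw [map_mul] at e
    have : γ * (ξ - σ ξ) = 0 := by linear_combination e - σ ξ * ht
    rw [mul_eq_zero, or_iff_right hγ0, sub_eq_zero] at this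
    nth_rewrite 2 [this]; exact hξ
  obtain ⟨α, hα, β, hβ, hαβ⟩ := split_scalar S hε hε0 γ
  have hnorm : α * α - ε * ε * (β * β) = ε * ε := by
    rw [hαβ, map_add, map_mul, fixed S hα, fixed S hβ, hε] at hγ
    linear_combination hγ
  have hα0 : α ≠ 0 := fun e => hγt (by rw [hαβ, e, map_add, map_mul, map_zero, fixed S hβ, hε]; ring)
  obtain ⟨M, hM⟩ : ∃ M, M = 4 * α / (ε * ε) := ⟨_, rfl⟩
  have hMm : M ∈ F₀ := hM ▸ F₀.div_mem (F₀.mul_mem (by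
    rw [show (4 : F) = 2 + 2 by norm_num]; exact F₀.add_mem (two_mem S) (two_mem S)) hα) hη
  have hMε : M * (ε * ε) = 4 * α := by rw [hM, div_mul_cancel₀ _ (mul_ne_zero hε0 hε0)]
  obtain ⟨a, ha, b, hb, hab⟩ := hrep M hMm
  obtain ⟨κ, hκ⟩ : ∃ κ, κ = ε / (ρ * μ₁) := ⟨_, rfl⟩
  have hκm : κ ∈ F₀ := mem_fixed S (by
    rw [hκ, map_div₀, map_mul, hε, hσρ, fixed S hm1, neg_mul, neg_div_neg_eq])
  have hκe : κ * κ * (μ₁ * μ₂) = -(ε * ε) := by
    rw [hκ]; field_simp; linear_combination hρe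
  obtain ⟨p₁, hp₁⟩ : ∃ p, p = α * a + β * (-(κ * b * μ₂)) := ⟨_, rfl⟩
  obtain ⟨p₂, hp₂⟩ : ∃ p, p = α * b + β * (κ * a * μ₁) := ⟨_, rfl⟩
  have hp₁m : p₁ ∈ F₀ := hp₁ ▸ F₀.add_mem (F₀.mul_mem hα ha) (F₀.mul_mem hβ (F₀.neg_mem
    (F₀.mul_mem (F₀.mul_mem hκm hb) hm2)))
  have hp₂m : p₂ ∈ F₀ := hp₂ ▸ F₀.add_mem (F₀.mul_mem hα hb) (F₀.mul_mem hβ
    (F₀.mul_mem (F₀.mul_mem hκm ha) hm1))
  have hss : p₁ * p₁ * μ₁ + p₂ * p₂ * μ₂ = ε * ε * M := by
    rw [hp₁, hp₂]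
    linear_combination (α * α) * hab + (β * β) * (κ * κ * (μ₁ * μ₂)) * hab + (β * β * M) * hκe + M * hnorm
  have hsx : p₁ * a * μ₁ + p₂ * b * μ₂ = α * M := by
    rw [hp₁, hp₂]
    linear_combination α * hab
  -- the element
  obtain ⟨E', hE', eE'⟩ := exists_E S B ha hb
  obtain ⟨E, hE, eE⟩ := exists_E S (B.swap (hF := hF)) hp₁m hp₂m
  obtain ⟨x, hxdef⟩ : ∃ x, x = (g : M4) *ᵥ r₀ := ⟨_, rfl⟩
  obtain ⟨y, hy⟩ : ∃ y, y = ((E * E' : GL (Fin 4) F) : M4) *ᵥ (u₁ + ε • u₂) := ⟨_, rfl⟩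
  obtain ⟨s, hs⟩ : ∃ s, s = p₁ • e₁ + p₂ • e₂ := ⟨_, rfl⟩
  obtain ⟨s', hs'⟩ : ∃ s', s' = a • e₁ + b • e₂ := ⟨_, rfl⟩
  have ns : h s s = ε * ε * M := by
    simp only [hs, h_add_left, h_add_right hF, h_smul_left, h_smul_right hF, b4, b5, fixed S hp₁m,
      fixed S hp₂m, ← hμ₁, ← hμ₂]
    linear_combination hss
  have ns' : h s' s' = M := by
    simp only [hs', h_add_left, h_add_right hF, h_smul_left, h_smul_right hF, b4, b5, fixed S ha,
      fixed S hb, ← hμ₁, ← hμ₂]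
    linear_combination hab
  have nx : h s' s = α * M := by
    simp only [hs, hs', h_add_left, h_add_right hF, h_smul_left, h_smul_right hF, b4, b5, fixed S hp₁m,
      fixed S hp₂m, ← hμ₁, ← hμ₂]
    linear_combination hsx
  have hv : h u₁ s = 0 ∧ h u₂ s = 0 ∧ h u₁ s' = 0 ∧ h u₂ s' = 0 ∧ h s' u₁ = 0 ∧ h s' u₂ = 0 ∧
      h s u₁ = 0 ∧ h s u₂ = 0 := by
    simp only [hs, hs', h_add_left, h_add_right hF, h_smul_left, h_smul_right hF, a5, a6, a7, a8, a9, b1,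
      b2, b3, mul_zero, add_zero, and_self]
  obtain ⟨v1, v2, v3, v4, v5, v6, v7, v8⟩ := hv
  rw [← hs'] at eE'
  rw [← hs] at eE
  have hy' : y = (1 - ε * M / 2) • u₁ + (-(ε * ε * M) / 2 + ε * (1 - α * M + M * (ε * ε * M) / 4)) • u₂ +
      ((1 - ε * M / 2) • s + ε • s') := by
    rw [hy, Units.val_mul, ← Matrix.mulVec_mulVec, Matrix.mulVec_add, Matrix.mulVec_smul, eE' u₁, eE' u₂]
    simp only [Matrix.mulVec_add, Matrix.mulVec_sub, Matrix.mulVec_smul, a1, a4, v3, v4]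
    simp only [eE _, a1, a2, a3, a4, v1, v2, v5, v6, ns, ns', nx]
    match_scalars <;> field_simp <;> ring
  have hyx : h y (u₁ + ε • u₂) = 0 := by
    rw [hy']
    simp only [h_add_left, h_add_right hF, h_smul_left, h_smul_right hF, a1, a2, a3, a4, v5, v6, v7, v8, hε]
    field_simp
    linear_combination (2 * ε * M) * hMε
  have hne : ∀ d : F, y ≠ d • (u₁ + ε • u₂) := fun d e => by
    rw [hy'] at e
    have e1 := congrArg (fun z => h z s) e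
    have e2 := congrArg (fun z => h z s') e
    simp only [h_add_left, h_smul_left, v1, v2, v3, v4, ns, ns', nx, show h s s' = α * M by
      rw [← h_swap hF, nx, map_mul, fixed S hα, fixed S hMm]] at e1 e2
    have hM0 : M ≠ 0 := fun e0 => by rw [e0, zero_mul, eq_comm, mul_eq_zero] at hMε; exact hMε.elim (by
      rw [show (4 : F) = 2 * 2 by norm_num]; exact mul_ne_zero h2 h2) hα0
    obtain ⟨C, hC⟩ : ∃ C, C = 1 - ε * M / 2 := ⟨_, rfl⟩
    rw [← hC] at e1 e2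
    have k2 : C * α + ε = 0 := mul_left_cancel₀ hM0 (by linear_combination e2)
    rw [hC] at k2
    obtain ⟨p, q'⟩ := eq_zero_of_split S hε hε0 hα
      (F₀.sub_mem F₀.one_mem (F₀.div_mem (F₀.mul_mem hMm hα) (two_mem S)))
      (show α + ε * (1 - M * α / 2) = 0 by field_simp at k2 ⊢; linear_combination k2)
    exact hα0 p
  have hgG := O.le hg
  have hgi := G_isometry hgG
  have hc0 : c ≠ 0 := fun e => by
    rw [e, zero_smul] at hx
    have := Matrix.mulVec_injective_iff_isUnit.2 g.isUnit (hx.trans (Matrix.mulVec_zero _).symm)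
    exact one_ne_zero (α := F) (by rw [← B₀.one, this, h_zero_left (hF := hF)])
  have hkK : g⁻¹ * (E * E') * g ∈ K :=
    mul_mem (mul_mem (inv_mem hg) (mul_mem (O.ge hE) (O.ge hE'))) hg
  have hk0 : ((g⁻¹ * (E * E') * g : GL (Fin 4) F) : M4) *ᵥ r₀ = c • (((g⁻¹ : GL (Fin 4) F) : M4) *ᵥ y) := by
    rw [Units.val_mul, Units.val_mul, ← Matrix.mulVec_mulVec, ← Matrix.mulVec_mulVec, hx, Matrix.mulVec_smul,
      ← hy, Matrix.mulVec_smul]
  refine fix_of_perp (g := g⁻¹ * (E * E') * g) O hkK B₀ B₀ ?_ fun e => ?_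
  · rw [← hgi, hk0, Matrix.mulVec_smul, mul_inv_mulVec, hx, h_smul_left, h_smul_right hF, hyx, mul_zero,
      mul_zero]
  obtain ⟨w, hw⟩ : ∃ w, w = ((g⁻¹ * (E * E') * g : GL (Fin 4) F) : M4) *ᵥ r₀ := ⟨_, rfl⟩
  rw [← hw] at e hk0
  have hwr : h w r₀ = 0 := by
    rw [hk0, ← hgi, Matrix.mulVec_smul, mul_inv_mulVec, hx, h_smul_left, h_smul_right hF, hyx, mul_zero,
      mul_zero]
  have hww : h w w = 0 := by rw [hw, G_isometry (O.le hkK), B₀.sing]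
  obtain ⟨c1, c2, c3, c4, c5, c6, c7, c8, c9, d1, d2, d3, d4, d5⟩ := B₀.vals (hF := hF)
  have hwe := B₀.expand (hF := hF) w
  rw [hwr, zero_smul, add_zero] at hwe
  have hW0 : ∀ z, IsR F₀ P z → h z z = 0 → h z r₀ = 0 → ∃ d : F, z = d • r₀ := fun z hz hzz hzr => by
    by_contra hc
    push Not at hc
    obtain ⟨z₁, hz₁, hz₁z₁, hz₁u, hout⟩ := exists_perp_singular S B₀.rr hz B₀.sing hzz (h_zero (hF := hF) hzr)
      (fun e0 => one_ne_zero (α := F) (by rw [← c3, e0, h_zero_left (hF := hF)])) hc B.rr a1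
      (fun e0 => one_ne_zero (α := F) (by rw [← a3, e0, h_zero_left (hF := hF)]))
    exact hout _ (eq_smul_of_aniso S B hA hz₁ hz₁z₁ hz₁u)
  obtain ⟨G₁, hG₁⟩ : ∃ G₁, G₁ = h w f₁ := ⟨_, rfl⟩
  obtain ⟨G₂, hG₂⟩ : ∃ G₂, G₂ = h w f₂ := ⟨_, rfl⟩
  obtain ⟨ν₁, hν₁⟩ : ∃ μ, μ = h f₁ f₁ := ⟨_, rfl⟩
  obtain ⟨ν₂, hν₂⟩ : ∃ μ, μ = h f₂ f₂ := ⟨_, rfl⟩
  rw [← hG₁, ← hG₂] at e
  rw [← hG₁, ← hG₂, ← hν₁, ← hν₂] at hwe
  have n1 : ν₁ ≠ 0 := hν₁ ▸ B₀.n₁
  have n2 : ν₂ ≠ 0 := hν₂ ▸ B₀.n₂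
  have hiso : G₁ * σ G₁ / ν₁ + G₂ * σ G₂ / ν₂ = 0 := by
    have := hww
    conv at this => lhs; arg 4; rw [hwe]
    rw [h_add_left, h_add_left, h_smul_left, h_smul_left, h_smul_left, ← h_swap hF w r₀, hwr, map_zero,
      ← h_swap hF w f₁, ← h_swap hF w f₂, ← hG₁, ← hG₂] at this
    linear_combination this
  have hG₁0 : G₁ ≠ 0 := fun e0 => by
    rw [e0, zero_mul, zero_div, zero_add, div_eq_zero_iff, or_iff_left n2, mul_eq_zero, map_eq_zero,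
      or_self] at hiso
    rw [e0, hiso] at hwe
    simp only [zero_div, zero_smul, add_zero] at hwe
    have h5 := congrArg (fun z => (g : M4) *ᵥ z) (hk0.symm.trans hwe)
    simp only [Matrix.mulVec_smul, mul_inv_mulVec, hx, smul_smul] at h5
    exact hne (h w r₀') (smul_right_injective V hc0 (by
      show c • y = c • h w r₀' • (u₁ + ε • u₂)
      rw [h5, smul_smul, mul_comm]))
  obtain ⟨r, hr⟩ : ∃ r, r = G₂ / G₁ := ⟨_, rfl⟩
  have hrm : r ∈ F₀ := mem_fixed S (by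
    rw [hr, map_div₀, div_eq_div_iff ((map_ne_zero σ).2 hG₁0) hG₁0]
    linear_combination e)
  have hz : IsR F₀ P (ν₁⁻¹ • f₁ + (r / ν₂) • f₂) :=
    (B₀.re₁.smul (F₀.inv_mem (hν₁ ▸ h_rat S B₀.re₁ B₀.re₁))).add
      (B₀.re₂.smul (F₀.div_mem hrm (hν₂ ▸ h_rat S B₀.re₂ B₀.re₂)))
  have hσν₁ : σ ν₁ = ν₁ := by rw [hν₁]; exact h_swap hF _ _
  have hσν₂ : σ ν₂ = ν₂ := by rw [hν₂]; exact h_swap hF _ _
  have hGr : G₂ = r * G₁ := by rw [hr, div_mul_cancel₀ _ hG₁0]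
  rw [hGr, map_mul, fixed S hrm] at hiso
  have hq : ν₁⁻¹ + r * r / ν₂ = 0 :=
    (mul_eq_zero.1 (show (G₁ * σ G₁) * (ν₁⁻¹ + r * r / ν₂) = 0 by linear_combination hiso)).resolve_left
      (mul_ne_zero hG₁0 ((map_ne_zero σ).2 hG₁0))
  obtain ⟨d, hd⟩ := hW0 _ hz (by
      simp only [h_add_left, h_add_right hF, h_smul_left, h_smul_right hF, d4, d5, map_inv₀, map_div₀,
        fixed S hrm, hσν₁, hσν₂, ← hν₁, ← hν₂]
      field_simp at hq ⊢
      linear_combination hq)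
    (by simp only [h_add_left, h_smul_left, c9, d1, mul_zero, add_zero])
  have := congrArg (fun z => h z f₁) hd
  simp only [h_add_left, h_smul_left, c5, d5, ← hν₁, inv_mul_cancel₀ n1, mul_zero, add_zero] at this
  exact one_ne_zero this

/-- A moved point with both real planes anisotropic. -/
theorem fix_of_aniso (O : Over hF F₀ P K) {g : GL (Fin 4) F} (hg : g ∈ K) {r₀ r₀' f₁ f₂ : V}
    (B₀ : Frame q F₀ P r₀ r₀' f₁ f₂) {p₁ p₂ e₁ e₂ : V} (hp₁ : IsR F₀ P p₁) (hp₂ : IsR F₀ P p₂)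
    (he₁ : IsR F₀ P e₁) (he₂ : IsR F₀ P e₂) (q₁ : h p₁ p₁ ≠ 0) (q₂ : h p₂ p₂ ≠ 0) (n₁ : h e₁ e₁ ≠ 0)
    (n₂ : h e₂ e₂ ≠ 0) (o : h p₁ p₂ = 0) (o' : h e₁ e₂ = 0)
    (o11 : h p₁ e₁ = 0) (o12 : h p₁ e₂ = 0) (o21 : h p₂ e₁ = 0) (o22 : h p₂ e₂ = 0)
    (hR : Aniso q F₀ p₁ p₂) (hW : Aniso q F₀ e₁ e₂) (hx1 : h ((g : M4) *ᵥ r₀) e₁ = 0)
    (hx2 : h ((g : M4) *ᵥ r₀) e₂ = 0) :
    ∃ k ∈ K, k ∉ subfieldSubgroup F₀ P ∧ ∃ ρ : F, (k : M4) *ᵥ r₀ = ρ • r₀ := by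
  have S := O.str
  obtain ⟨ρ, hσρ, hρ0, hρe, -⟩ := exists_root S he₁ he₂ n₁ n₂ hW
  obtain ⟨π, hσπ, hπ0, hπe, hrep⟩ := exists_root S hp₁ hp₂ q₁ q₂ hR
  obtain ⟨a, ha, b, hb, hab⟩ := hrep _ (F₀.neg_mem (h_rat S he₁ he₁))
  obtain ⟨κ, hκ⟩ : ∃ κ, κ = ρ / (π * h p₁ p₁) := ⟨_, rfl⟩
  have hκm : κ ∈ F₀ := mem_fixed S (by
    rw [hκ, map_div₀, map_mul, hσρ, hσπ, fixed S (h_rat S hp₁ hp₁), neg_mul, neg_div_neg_eq])
  have hκe : κ * κ * (h p₁ p₁ * h p₂ p₂) * h e₁ e₁ = h e₂ e₂ := by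
    rw [hκ]; field_simp
    linear_combination (h p₂ p₂) * hρe - h e₂ e₂ * hπe
  have o'' := h_zero (hF := hF) o'
  have oo := h_zero (hF := hF) o
  have o11' := h_zero (hF := hF) o11
  have o12' := h_zero (hF := hF) o12
  have o21' := h_zero (hF := hF) o21
  have o22' := h_zero (hF := hF) o22
  have hbm : -(κ * b * h p₂ p₂) ∈ F₀ := F₀.neg_mem (F₀.mul_mem (F₀.mul_mem hκm hb) (h_rat S hp₂ hp₂))
  have ham : κ * a * h p₁ p₁ ∈ F₀ := F₀.mul_mem (F₀.mul_mem hκm ha) (h_rat S hp₁ hp₁)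
  obtain ⟨u₁, hu₁⟩ : ∃ u, u = a • p₁ + b • p₂ + e₁ := ⟨_, rfl⟩
  obtain ⟨u₂, hu₂⟩ : ∃ u, u = (-(κ * b * h p₂ p₂)) • p₁ + (κ * a * h p₁ p₁) • p₂ + e₂ := ⟨_, rfl⟩
  have h11 : h u₁ u₁ = 0 := by
    simp only [hu₁, h_add_left, h_add_right hF, h_smul_left, h_smul_right hF, o, oo, o11, o11', o21, o21',
      fixed S ha, fixed S hb]
    linear_combination hab
  have h22 : h u₂ u₂ = 0 := by
    simp only [hu₂, h_add_left, h_add_right hF, h_smul_left, h_smul_right hF, o, oo, o12, o12', o22, o22',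
      fixed S hbm, fixed S ham]
    linear_combination (κ * κ * h p₁ p₁ * h p₂ p₂) * hab - hκe
  have h12 : h u₁ u₂ = 0 := by
    simp only [hu₁, hu₂, h_add_left, h_add_right hF, h_smul_left, h_smul_right hF, o, oo, o', o11', o12,
      o21', o22, fixed S hbm, fixed S ham]
    ring
  obtain ⟨z, hz, hzz, hzr, hout⟩ := exists_perp_singular S
    (hu₁ ▸ ((hp₁.smul ha).add (hp₂.smul hb)).add he₁) (hu₂ ▸ ((hp₁.smul hbm).add (hp₂.smul ham)).add he₂)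
    h11 h22 h12 (fun e => n₁ (by
      have := congrArg (fun y => h y e₁) e
      simpa [hu₁, h_add_left, h_smul_left, o11, o21, h_zero_left (hF := hF)] using this))
    (fun c e => n₂ (by
      have := congrArg (fun y => h y e₂) e
      rw [hu₁, hu₂] at this
      simp only [h_add_left, h_smul_left, o12, o22, o', mul_zero, add_zero, zero_add] at this
      linear_combination this))
    B₀.rr B₀.sing (fun e => one_ne_zero (α := F) (by rw [← B₀.one, e, h_zero_left (hF := hF)]))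
  obtain ⟨c1, c2, c3, c4, c5, c6, c7, c8, c9, d1, d2, d3, d4, d5⟩ := B₀.vals (hF := hF)
  obtain ⟨s, hs⟩ : ∃ s, s = z - h z r₀' • r₀ := ⟨_, rfl⟩
  have hsR : IsR F₀ P s := hs ▸ hz.sub (B₀.rr.smul (h_rat S hz B₀.rr'))
  have hsr : h s r₀ = 0 := by rw [hs, h_sub_left, h_smul_left, hzr, c1]; ring
  have hsr' : h s r₀' = 0 := by rw [hs, h_sub_left, h_smul_left, c3]; ring
  have hss : h s s = 0 := by
    rw [hs]
    simp only [h_sub_left, h_sub_right hF, h_smul_left, h_smul_right hF, hzz, c1, hzr, h_zero (hF := hF) hzr]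
    ring
  obtain ⟨s', hs', hs'r, hs'r', hs's', hss', hexp⟩ := exists_hyp S B₀ hsR
    (fun e => hout (h z r₀') (sub_eq_zero.1 (hs ▸ e))) hsr hsr' hss
  -- the rotation
  obtain ⟨β, hβ, hβ0, hne⟩ : ∃ β ∈ F₀, β ≠ 0 ∧ h e₁ e₁ ≠ β * β * h e₂ e₂ := by
    by_cases h1 : h e₁ e₁ = h e₂ e₂
    · obtain ⟨l, hl, hl0, hl2⟩ := exists_real_sq S
      exact ⟨l, hl, hl0, fun e => hl2 (mul_right_cancel₀ n₂ (by rw [one_mul, ← e, h1]))⟩
    · exact ⟨1, F₀.one_mem, one_ne_zero, by rwa [one_mul, one_mul]⟩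
  have hvv : h (e₁ + β • e₂) (e₁ + β • e₂) = h e₁ e₁ + β * β * h e₂ e₂ := by
    simp only [h_add_left, h_add_right hF, h_smul_left, h_smul_right hF, o', o'', fixed S hβ]; ring
  have hD : h e₁ e₁ + β * β * h e₂ e₂ ≠ 0 := fun e =>
    one_ne_zero (hW 1 F₀.one_mem β hβ (by linear_combination e)).1
  obtain ⟨t, htG, htact, httr⟩ := exists_refl S he₁ (he₁.add (he₂.smul hβ)) n₁ (by rw [hvv]; exact hD)
  have htx : (t : M4) *ᵥ ((g : M4) *ᵥ r₀) = (g : M4) *ᵥ r₀ := by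
    simp [htact, h_add_right hF, h_smul_right hF, hx1, hx2]
  have httr' : (t : M4).trace = 4 * h e₁ e₁ / (h e₁ e₁ + β * β * h e₂ e₂) := by
    rw [httr, hvv]
    simp only [h_add_left, h_add_right hF, h_smul_left, h_smul_right hF, o', o'', fixed S hβ]
    field_simp
    ring
  have hk : g⁻¹ * t * g ∈ K := mul_mem (mul_mem (inv_mem hg) (O.ge htG)) hg
  have hkr : ((g⁻¹ * t * g : GL (Fin 4) F) : M4) *ᵥ r₀ = r₀ := by
    simp only [Units.val_mul, ← Matrix.mulVec_mulVec, htx, inv_mulVec]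
  refine ⟨_, hk, fun hmem => ?_, 1, by rw [hkr, one_smul]⟩
  obtain ⟨k, hkdef⟩ : ∃ k, k = g⁻¹ * t * g := ⟨_, rfl⟩
  rw [← hkdef] at hk hkr hmem
  have htrk : (k : M4).trace = 4 * h e₁ e₁ / (h e₁ e₁ + β * β * h e₂ e₂) := by
    rw [hkdef, Units.val_mul, Units.val_mul, Matrix.trace_units_conj', httr']
  obtain ⟨C, hC0, hmaps⟩ := maps_of_mem (hF := hF) hmem
  obtain ⟨w₀, hw₀, ew₀⟩ := hmaps r₀ B₀.rr
  have hCm : C ∈ F₀ := by
    have : IsR F₀ P (C⁻¹ • r₀) := by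
      rw [← hkr, ew₀, smul_smul, inv_mul_cancel₀ hC0, one_smul]; exact hw₀
    rw [← inv_inv C]
    exact F₀.inv_mem (mem_of_smul S B₀ this)
  have hreal : ∀ v, IsR F₀ P v → IsR F₀ P ((k : M4) *ᵥ v) := fun v hv => by
    obtain ⟨w, hw, e⟩ := hmaps v hv
    rw [e]; exact hw.smul hCm
  have hki := G_isometry (O.le hk)
  have kr : ∀ v, h ((k : M4) *ᵥ v) r₀ = h v r₀ := fun v => by
    conv_lhs => rw [← hkr]
    rw [hki]
  obtain ⟨u, hu⟩ : ∃ u, u = h ((k : M4) *ᵥ s) s' := ⟨_, rfl⟩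
  obtain ⟨u', hu'⟩ : ∃ u', u' = h ((k : M4) *ᵥ s) s := ⟨_, rfl⟩
  obtain ⟨v, hv⟩ : ∃ v, v = h ((k : M4) *ᵥ s') s := ⟨_, rfl⟩
  obtain ⟨v', hv'⟩ : ∃ v', v' = h ((k : M4) *ᵥ s') s' := ⟨_, rfl⟩
  have hum : u ∈ F₀ := hu ▸ h_rat S (hreal s hsR) hs'
  have hu'm : u' ∈ F₀ := hu' ▸ h_rat S (hreal s hsR) hsR
  have hvm : v ∈ F₀ := hv ▸ h_rat S (hreal s' hs') hsR
  have hv'm : v' ∈ F₀ := hv' ▸ h_rat S (hreal s' hs') hs'
  have htr : (k : M4).trace = 2 + u + v := by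
    rw [trace_of_expand (hF := hF) (b := ![r₀, r₀', s, s']) (d := ![r₀', r₀, s', s]) (fun x => by
      rw [Fin.sum_univ_four]; exact hexp x), Fin.sum_univ_four]
    simp only [Matrix.cons_val_zero, Matrix.cons_val_one, Matrix.cons_val, hkr, kr, c3, c4, ← hu, ← hv]
    ring
  have es : (k : M4) *ᵥ s = h ((k : M4) *ᵥ s) r₀' • r₀ + u • s + u' • s' := by
    conv_lhs => rw [hexp ((k : M4) *ᵥ s), kr, hsr, ← hu, ← hu']
    simp
  have es' : (k : M4) *ᵥ s' = h ((k : M4) *ᵥ s') r₀' • r₀ + v' • s + v • s' := by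
    conv_lhs => rw [hexp ((k : M4) *ᵥ s'), kr, hs'r, ← hv, ← hv']
    simp
  have hs's : h s' s = 1 := by rw [← h_swap hF, hss', map_one]
  have k1 := hki s s
  have k2 := hki s s'
  have k3 := hki s' s'
  rw [es] at k1 k2
  rw [es'] at k2 k3
  simp only [h_add_left, h_add_right hF, h_smul_left, h_smul_right hF, c1, hsr, hs'r, hss, hs's', hss', hs's,
    h_zero (hF := hF) hsr, h_zero (hF := hF) hs'r, fixed S hum, fixed S hu'm, fixed S hvm, fixed S hv'm]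
    at k1 k2 k3
  have h2 := two_ne S
  have huu : u * u' = 0 := (mul_eq_zero.1 (show 2 * (u * u') = 0 by linear_combination k1)).resolve_left h2
  have hvv' : v * v' = 0 := (mul_eq_zero.1 (show 2 * (v * v') = 0 by linear_combination k3)).resolve_left h2
  rw [htr] at htrk
  rw [eq_div_iff hD] at htrk
  rcases mul_eq_zero.1 huu with e0 | e0
  · rw [e0, zero_mul] at k2
    have hv'0 : v' ≠ 0 := fun e => one_ne_zero (α := F) (by rw [e] at k2; linear_combination -k2)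
    rw [(mul_eq_zero.1 hvv').resolve_right hv'0, e0] at htrk
    refine hne ((mul_right_inj' h2).1 ?_)
    linear_combination -htrk
  · rw [e0, zero_mul] at k2
    have huv : u * v = 1 := by linear_combination k2
    have hu0 : u ≠ 0 := left_ne_zero_of_mul_eq_one huv
    obtain ⟨D, hDdef⟩ : ∃ D, D = h e₁ e₁ + β * β * h e₂ e₂ := ⟨_, rfl⟩
    rw [← hDdef] at htrk hD
    obtain ⟨l, hl⟩ : ∃ l, l = (u * u - 1) * D / (4 * u * β) := ⟨_, rfl⟩
    have h4 : (4 : F) ≠ 0 := by rw [show (4 : F) = 2 * 2 by norm_num]; exact mul_ne_zero h2 h2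
    have hlm : l ∈ F₀ := hl ▸ F₀.div_mem (F₀.mul_mem (F₀.sub_mem (F₀.mul_mem hum hum) F₀.one_mem)
      (hDdef ▸ F₀.add_mem (h_rat S he₁ he₁) (F₀.mul_mem (F₀.mul_mem hβ hβ) (h_rat S he₂ he₂))))
      (F₀.mul_mem (F₀.mul_mem (by
        rw [show (4 : F) = 2 + 2 by norm_num]; exact F₀.add_mem (two_mem S) (two_mem S)) hum) hβ)
    have A1 : (u + 1) * (u + 1) * D = 4 * h e₁ e₁ * u := by linear_combination u * htrk - D * huv
    have A2 : (u - 1) * (u - 1) * D = -(4 * (β * β) * h e₂ e₂ * u) := by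
      linear_combination A1 - 4 * u * hDdef
    have hll : l * l = -(h e₁ e₁ * h e₂ e₂) := by
      have e : l * (4 * u * β) = (u * u - 1) * D := by
        rw [hl, div_mul_cancel₀ _ (mul_ne_zero (mul_ne_zero h4 hu0) hβ0)]
      refine mul_right_cancel₀ (mul_ne_zero (mul_ne_zero (mul_ne_zero h4 hu0) hβ0)
        (mul_ne_zero (mul_ne_zero h4 hu0) hβ0)) ?_
      linear_combination (l * (4 * u * β) + (u * u - 1) * D) * e + ((u - 1) * (u - 1) * D) * A1 +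
        (4 * h e₁ e₁ * u) * A2
    exact n₁ (hW l hlm (h e₁ e₁) (h_rat S he₁ he₁) (by linear_combination (h e₁ e₁) * hll)).2

/-- The orthogonal subfield subgroups are maximal in `SU_4`. -/
theorem su4_orthogonal_maximal (S : Real4 hF F₀ P) : IsMaximalIn G (subfieldSubgroup F₀ P ⊓ G) := by
  refine ⟨lt_of_le_of_ne inf_le_right fun e => ?_, fun K hle hKG => ?_⟩
  · exact CfsgLib.Aschbacher.not_SU_le_subfield hF (by omega) Nat.prime_two S.card P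
      (show G ≤ _ from e.ge.trans inf_le_left)
  by_cases hKH : K ≤ subfieldSubgroup F₀ P
  · exact Or.inl (le_antisymm (le_inf hKH hKG) hle)
  have O : Over hF F₀ P K := ⟨S, hKG, hle⟩
  obtain ⟨g, hg, hgS⟩ := SetLike.not_le_iff_exists.1 hKH
  obtain ⟨r₀, hr₀, hr₀0, hr₀r₀⟩ := exists_singular S
  obtain ⟨r₀', f₁, f₂, B₀⟩ := exists_frame S hr₀ hr₀0 hr₀r₀
  suffices ∃ k ∈ K, k ∉ subfieldSubgroup F₀ P ∧ ∃ r r' e₁ e₂ : V, Frame q F₀ P r r' e₁ e₂ ∧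
      ∃ ρ : F, (k : M4) *ᵥ r = ρ • r by
    obtain ⟨k, hk, hkout, r, r', e₁, e₂, B, ρ, hkr⟩ := this
    obtain ⟨c, hc0, hcs, hT⟩ := wit_of_fix O hk hkout B hkr
    exact Or.inr (le_antisymm hKG (SU_le_of_ctr (hF := hF) (le_refl 4) fun z hz =>
      ctr_of_wit O B.rr B.sing (fun e => one_ne_zero (α := F) (by rw [← B.one, e, h_zero_left (hF := hF)]))
        hc0 hcs hT hz))
  have hgi := G_isometry (hKG hg)
  obtain ⟨x, hx⟩ : ∃ x, x = (g : M4) *ᵥ r₀ := ⟨_, rfl⟩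
  have hxx : h x x = 0 := by rw [hx, hgi, hr₀r₀]
  have hx0 : x ≠ 0 := fun e => hr₀0 (Matrix.mulVec_injective_iff_isUnit.2 g.isUnit
    ((hx.symm.trans e).trans (Matrix.mulVec_zero _).symm))
  by_cases hreal : ∃ (c : F) (w : V), IsR F₀ P w ∧ x = c • w
  · obtain ⟨c, w, hw, hxw⟩ := hreal
    have hc0 : c ≠ 0 := fun e => hx0 (by rw [hxw, e, zero_smul])
    have hw0 : w ≠ 0 := fun e => hx0 (by rw [hxw, e, smul_zero])
    have hww : h w w = 0 := by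
      rw [hxw, h_smul_left, h_smul_right hF, ← mul_assoc, mul_eq_zero] at hxx
      exact hxx.resolve_left (mul_ne_zero hc0 ((map_ne_zero σ).2 hc0))
    obtain ⟨m, hm, hmw⟩ := exists_conn S hw hww hw0 hr₀ hr₀r₀ hr₀0
    refine ⟨m * g, mul_mem (hle hm) hg, fun e => hgS ?_, r₀, r₀', f₁, f₂, B₀, c, ?_⟩
    · have := mul_mem (inv_mem (show m ∈ subfieldSubgroup F₀ P from hm.1)) e
      rwa [inv_mul_cancel_left] at this
    · rw [Units.val_mul, ← Matrix.mulVec_mulVec, ← hx, hxw, Matrix.mulVec_smul, hmw]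
  push Not at hreal
  by_cases hperp : ∃ r, IsR F₀ P r ∧ r ≠ 0 ∧ h r r = 0 ∧ h x r = 0
  · obtain ⟨r, hr, hr0, hrr, hxr⟩ := hperp
    obtain ⟨r', e₁, e₂, B⟩ := exists_frame S hr hr0 hrr
    by_cases hne : h x e₁ * σ (h x e₂) = h x e₂ * σ (h x e₁)
    swap
    · obtain ⟨k, hk, hkout, hρ⟩ := fix_of_perp O hg B₀ B (hx ▸ hxr) (hx ▸ hne)
      exact ⟨k, hk, hkout, r, r', e₁, e₂, B, hρ⟩
    obtain ⟨a1, a2, a3, a4, a5, a6, a7, a8, a9, b1, b2, b3, b4, b5⟩ := B.vals (hF := hF)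
    obtain ⟨G₁, hG₁⟩ : ∃ G₁, G₁ = h x e₁ := ⟨_, rfl⟩
    obtain ⟨G₂, hG₂⟩ : ∃ G₂, G₂ = h x e₂ := ⟨_, rfl⟩
    obtain ⟨ν₁, hν₁⟩ : ∃ μ, μ = h e₁ e₁ := ⟨_, rfl⟩
    obtain ⟨ν₂, hν₂⟩ : ∃ μ, μ = h e₂ e₂ := ⟨_, rfl⟩
    rw [← hG₁, ← hG₂] at hne
    have hxe := B.expand (hF := hF) x
    rw [hxr, zero_smul, add_zero, ← hG₁, ← hG₂, ← hν₁, ← hν₂] at hxe
    have n1 : ν₁ ≠ 0 := hν₁ ▸ B.n₁
    have n2 : ν₂ ≠ 0 := hν₂ ▸ B.n₂
    have hiso : G₁ * σ G₁ / ν₁ + G₂ * σ G₂ / ν₂ = 0 := by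
      have := hxx
      conv at this => lhs; arg 4; rw [hxe]
      rw [h_add_left, h_add_left, h_smul_left, h_smul_left, h_smul_left, ← h_swap hF x r, hxr, map_zero,
        ← h_swap hF x e₁, ← h_swap hF x e₂, ← hG₁, ← hG₂] at this
      linear_combination this
    have hG₁0 : G₁ ≠ 0 := fun e0 => by
      rw [e0, zero_mul, zero_div, zero_add, div_eq_zero_iff, or_iff_left n2, mul_eq_zero, map_eq_zero,
        or_self] at hiso
      rw [e0, hiso] at hxe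
      simp only [zero_div, zero_smul, add_zero] at hxe
      exact hreal _ r hr hxe
    obtain ⟨p, hp⟩ : ∃ p, p = G₂ / G₁ := ⟨_, rfl⟩
    have hpm : p ∈ F₀ := mem_fixed S (by
      rw [hp, map_div₀, div_eq_div_iff ((map_ne_zero σ).2 hG₁0) hG₁0]
      linear_combination hne)
    have hGp : G₂ = p * G₁ := by rw [hp, div_mul_cancel₀ _ hG₁0]
    obtain ⟨s, hs⟩ : ∃ s, s = ν₁⁻¹ • e₁ + (p / ν₂) • e₂ := ⟨_, rfl⟩
    have hsR : IsR F₀ P s := hs ▸ (B.re₁.smul (F₀.inv_mem (hν₁ ▸ h_rat S B.re₁ B.re₁))).add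
      (B.re₂.smul (F₀.div_mem hpm (hν₂ ▸ h_rat S B.re₂ B.re₂)))
    have hxs : x = h x r' • r + G₁ • s := by
      conv_lhs => rw [hxe, hGp]
      rw [hs]; module
    have hse : h s e₁ = 1 := by
      simp only [hs, h_add_left, h_smul_left, b5, ← hν₁, inv_mul_cancel₀ n1, mul_zero, add_zero]
    have hsr : h s r = 0 := by simp only [hs, h_add_left, h_smul_left, a9, b1, mul_zero, add_zero]
    have hsr' : h s r' = 0 := by simp only [hs, h_add_left, h_smul_left, b2, b3, mul_zero, add_zero]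
    have hss : h s s = 0 := by
      have := hxx
      rw [hxs] at this
      simp only [h_add_left, h_add_right hF, h_smul_left, h_smul_right hF, a1, hsr,
        h_zero (hF := hF) hsr] at this
      exact (mul_eq_zero.1 (show (G₁ * σ G₁) * h s s = 0 by linear_combination this)).resolve_left
        (mul_ne_zero hG₁0 ((map_ne_zero σ).2 hG₁0))
    by_cases e : h x r' * σ G₁ = G₁ * σ (h x r')
    swap
    · obtain ⟨k, hk, hkout, hρ⟩ := fix_of_line O hg B₀ B hsR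
        (fun e0 => one_ne_zero (α := F) (by rw [← hse, e0, h_zero_left (hF := hF)])) hsr hsr' hss
        (α := h x r') (β := G₁) (hx ▸ hxs) e
      exact ⟨k, hk, hkout, r₀, r₀', f₁, f₂, B₀, hρ⟩
    obtain ⟨ω, hω⟩ : ∃ ω, ω = h x r' / G₁ := ⟨_, rfl⟩
    have hωm : ω ∈ F₀ := mem_fixed S (by
      rw [hω, map_div₀, div_eq_div_iff ((map_ne_zero σ).2 hG₁0) hG₁0]
      linear_combination -e)
    refine (hreal G₁ (ω • r + s) ((hr.smul hωm).add hsR) ?_).elim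
    rw [smul_add, smul_smul, hω, mul_div_cancel₀ _ hG₁0]
    exact hxs
  push Not at hperp
  obtain ⟨ε, hε0, hεs⟩ := exists_skew hF
  have hε : σ ε = -ε := by linear_combination hεs
  obtain ⟨a, b, ha, hb, hab⟩ := split_vec S hε hε0 x
  have hba : h b a = h a b := h_symm S ha hb
  have hs : h a a = ε * ε * h b b := by
    have := hxx
    rw [hab] at this
    simp only [h_add_left, h_add_right hF, h_smul_left, h_smul_right hF, hε, hba] at this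
    linear_combination this
  have hxsum : ∀ v, IsR F₀ P v → h a v = 0 → h b v = 0 → h x v = 0 := fun v _ c1 c2 => by
    rw [hab, h_add_left, h_smul_left, c1, c2]; ring
  by_cases hbb : h b b = 0
  · have haa : h a a = 0 := by rw [hs, hbb, mul_zero]
    have ha0 : a ≠ 0 := fun e => hreal ε b hb (by rw [hab, e, zero_add])
    obtain ⟨σ₀, hσ₀⟩ : ∃ s, s = h a b := ⟨_, rfl⟩
    have hσ₀0 : σ₀ ≠ 0 := fun e => hperp a ha ha0 haa (hxsum a ha haa (by rw [hba, ← hσ₀, e]))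
    have hσ₀m : σ₀ ∈ F₀ := hσ₀ ▸ h_rat S ha hb
    have hu2 : IsR F₀ P (σ₀⁻¹ • b) := hb.smul (F₀.inv_mem hσ₀m)
    have h22 : h (σ₀⁻¹ • b) (σ₀⁻¹ • b) = 0 := by rw [h_smul_left, h_smul_right hF, hbb]; ring
    have h12 : h a (σ₀⁻¹ • b) = 1 := by
      rw [h_smul_right hF, map_inv₀, fixed S hσ₀m, ← hσ₀, inv_mul_cancel₀ hσ₀0]
    have h2 := two_ne S
    have hb2 : ∀ i, IsR F₀ P (![a + σ₀⁻¹ • b, a - σ₀⁻¹ • b] i) := fun i => by
      fin_cases i <;> [exact ha.add hu2; exact ha.sub hu2]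
    have h21 : h (σ₀⁻¹ • b) a = 1 := by rw [← h_swap hF, h12, map_one]
    have np : h (a + σ₀⁻¹ • b) (a + σ₀⁻¹ • b) = 2 := by
      simp only [h_add_left, h_add_right hF, haa, h22, h12, h21]; ring
    have nm : h (a - σ₀⁻¹ • b) (a - σ₀⁻¹ • b) = -2 := by
      simp only [h_sub_left, h_sub_right hF, haa, h22, h12, h21]; ring
    have npm : h (a + σ₀⁻¹ • b) (a - σ₀⁻¹ • b) = 0 := by
      simp only [h_add_left, h_sub_right hF, haa, h22, h12, h21]; ring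
    obtain ⟨e₁, he₁, he₁b, n₁⟩ := exists_aniso S (k := 2) (by norm_num) hb2 (fun i j e => by
        fin_cases i <;> fin_cases j <;> first | exact absurd rfl e | simp [npm, h_zero (hF := hF) npm])
      (fun i => by fin_cases i <;> simp [np, nm, h2])
    have d1 : h e₁ (a + σ₀⁻¹ • b) = 0 := he₁b 0
    have d2 : h e₁ (a - σ₀⁻¹ • b) = 0 := he₁b 1
    have key : ∀ e, h e (a + σ₀⁻¹ • b) = 0 → h e (a - σ₀⁻¹ • b) = 0 →
        h a e = 0 ∧ h (σ₀⁻¹ • b) e = 0 := fun e c1 c2 => by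
      rw [h_add_right hF] at c1
      rw [h_sub_right hF] at c2
      exact ⟨h_zero (hF := hF) ((mul_eq_zero.1 (show (2 : F) * h e a = 0 by linear_combination c1 + c2)).resolve_left h2),
        h_zero (hF := hF) ((mul_eq_zero.1 (show (2 : F) * h e (σ₀⁻¹ • b) = 0 by linear_combination c1 - c2)).resolve_left h2)⟩
    obtain ⟨e₂, he₂, he₂b, n₂⟩ := exists_aniso S (k := 3) (by norm_num)
      (b := ![a + σ₀⁻¹ • b, a - σ₀⁻¹ • b, e₁])
      (fun i => by fin_cases i <;> [exact ha.add hu2; exact ha.sub hu2; exact he₁])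
      (fun i j e => by
        fin_cases i <;> fin_cases j <;> first | exact absurd rfl e |
          simp [npm, d1, d2, h_zero (hF := hF) npm, h_zero (hF := hF) d1, h_zero (hF := hF) d2])
      (fun i => by fin_cases i <;> simp [np, nm, h2, n₁])
    have B : Frame q F₀ P a (σ₀⁻¹ • b) e₁ e₂ := ⟨ha, hu2, he₁, he₂, haa, h22, h12, (key e₁ d1 d2).1,
      (key e₂ (he₂b 0) (he₂b 1)).1, (key e₁ d1 d2).2, (key e₂ (he₂b 0) (he₂b 1)).2,
      h_zero (hF := hF) (he₂b 2), n₁, n₂⟩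
    have hA : Aniso q F₀ e₁ e₂ := fun p hp p' hp' e => by
      by_contra hne
      obtain ⟨-, -, -, -, a5, a6, a7, a8, -, -, -, -, b4, b5⟩ := B.vals (hF := hF)
      refine hperp (p • e₁ + p' • e₂) ((he₁.smul hp).add (he₂.smul hp')) (fun e0 => hne ?_) ?_ ?_
      · have k1 := congrArg (fun z => h z e₁) e0
        have k2 := congrArg (fun z => h z e₂) e0
        simp only [h_add_left, h_smul_left, b4, b5, h_zero_left (hF := hF), mul_zero, add_zero, zero_add,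
          mul_eq_zero, or_iff_left n₁, or_iff_left n₂] at k1 k2
        exact ⟨k1, k2⟩
      · simp only [h_add_left, h_add_right hF, h_smul_left, h_smul_right hF, b4, b5, fixed S hp, fixed S hp']
        linear_combination e
      · rw [hab, show ε • b = (ε * σ₀) • (σ₀⁻¹ • b) by
          rw [smul_smul, mul_assoc, mul_inv_cancel₀ hσ₀0, mul_one]]
        simp only [h_add_left, h_add_right hF, h_smul_right hF, h_smul_left, a5, a6]
        have c7 : h (σ₀⁻¹ • b) e₁ = 0 := a7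
        have c8 : h (σ₀⁻¹ • b) e₂ = 0 := a8
        rw [h_smul_left] at c7 c8
        rw [c7, c8]; ring
    obtain ⟨k, hk, hkout, hρ⟩ := fix_of_hyper O hg B₀ B hA (c := 1) (ε := ε * σ₀)
      (by rw [map_mul, hε, fixed S hσ₀m, neg_mul]) (mul_ne_zero hε0 hσ₀0)
      (by rw [← hx, hab, one_smul, smul_smul, mul_assoc, mul_inv_cancel₀ hσ₀0, mul_one])
    exact ⟨k, hk, hkout, r₀, r₀', f₁, f₂, B₀, hρ⟩
  obtain ⟨p₂, hp₂⟩ : ∃ p, p = a - (h a b / h b b) • b := ⟨_, rfl⟩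
  have hp₂R : IsR F₀ P p₂ := hp₂ ▸ ha.sub (hb.smul (F₀.div_mem (h_rat S ha hb) (h_rat S hb hb)))
  have hbp : h b p₂ = 0 := by
    rw [hp₂, h_sub_right hF, h_smul_right hF,
      fixed S (F₀.div_mem (h_rat S ha hb) (h_rat S hb hb)), hba, div_mul_cancel₀ _ hbb, sub_self]
  have hpb := h_zero (hF := hF) hbp
  have hpp : h p₂ p₂ = (ε * ε * (h b b * h b b) - h a b * h a b) / h b b := by
    rw [hp₂]
    simp only [h_sub_left, h_sub_right hF, h_smul_left, h_smul_right hF,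
      fixed S (F₀.div_mem (h_rat S ha hb) (h_rat S hb hb)), hba, hs]
    field_simp
    ring
  have hpp0 : h p₂ p₂ ≠ 0 := by
    rw [hpp]
    refine div_ne_zero (fun e => ?_) hbb
    have h0 : (h a b - ε * h b b) * (h a b + ε * h b b) = 0 := by linear_combination -e
    rcases mul_eq_zero.1 h0 with e' | e'
    · exact hbb (neg_eq_zero.1 (eq_zero_of_split S hε hε0 (h_rat S ha hb)
        (F₀.neg_mem (h_rat S hb hb)) (by linear_combination e')).2)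
    · exact hbb (eq_zero_of_split S hε hε0 (h_rat S ha hb) (h_rat S hb hb) e').2
  obtain ⟨e₁, he₁, he₁b, n₁⟩ := exists_aniso S (k := 2) (by norm_num) (b := ![b, p₂])
    (fun i => by fin_cases i <;> assumption) (fun i j e => by
      fin_cases i <;> fin_cases j <;> first | exact absurd rfl e | simp [hbp, hpb])
    (fun i => by fin_cases i <;> assumption)
  have d1 : h e₁ b = 0 := he₁b 0
  have d2 : h e₁ p₂ = 0 := he₁b 1
  obtain ⟨e₂, he₂, he₂b, n₂⟩ := exists_aniso S (k := 3) (by norm_num) (b := ![b, p₂, e₁])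
    (fun i => by fin_cases i <;> assumption) (fun i j e => by
      fin_cases i <;> fin_cases j <;> first | exact absurd rfl e |
        simp [hbp, hpb, d1, d2, h_zero (hF := hF) d1, h_zero (hF := hF) d2])
    (fun i => by fin_cases i <;> assumption)
  have d3 : h e₂ b = 0 := he₂b 0
  have d4 : h e₂ p₂ = 0 := he₂b 1
  have d5 : h e₂ e₁ = 0 := he₂b 2
  have hab' : a = p₂ + (h a b / h b b) • b := by rw [hp₂]; module
  have hxe1 : h x e₁ = 0 := by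
    rw [hab, hab', h_add_left, h_add_left, h_smul_left, h_smul_left, h_zero (hF := hF) d1,
      h_zero (hF := hF) d2]; ring
  have hxe2 : h x e₂ = 0 := by
    rw [hab, hab', h_add_left, h_add_left, h_smul_left, h_smul_left, h_zero (hF := hF) d3,
      h_zero (hF := hF) d4]; ring
  have hA : Aniso q F₀ e₁ e₂ := fun p hp p' hp' e => by
    by_contra hne
    refine hperp (p • e₁ + p' • e₂) ((he₁.smul hp).add (he₂.smul hp')) (fun e0 => hne ?_) ?_ ?_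
    · have k1 := congrArg (fun z => h z e₁) e0
      have k2 := congrArg (fun z => h z e₂) e0
      simp only [h_add_left, h_smul_left, d5, h_zero (hF := hF) d5, h_zero_left (hF := hF), mul_zero,
        add_zero, zero_add, mul_eq_zero, or_iff_left n₁, or_iff_left n₂] at k1 k2
      exact ⟨k1, k2⟩
    · simp only [h_add_left, h_add_right hF, h_smul_left, h_smul_right hF, d5, h_zero (hF := hF) d5,
        fixed S hp, fixed S hp']
      linear_combination e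
    · rw [h_add_right hF, h_smul_right hF, h_smul_right hF, hxe1, hxe2]; ring
  by_cases hR : Aniso q F₀ b p₂
  · obtain ⟨k, hk, hkout, hρ⟩ := fix_of_aniso O hg B₀ hb hp₂R he₁ he₂ hbb hpp0 n₁ n₂ hbp
      (h_zero (hF := hF) d5) (h_zero (hF := hF) d1) (h_zero (hF := hF) d3) (h_zero (hF := hF) d2)
      (h_zero (hF := hF) d4) hR hA (hx ▸ hxe1) (hx ▸ hxe2)
    exact ⟨k, hk, hkout, r₀, r₀', f₁, f₂, B₀, hρ⟩
  unfold Aniso at hR
  push Not at hR
  obtain ⟨p, hp, p', hp', e, hne⟩ := hR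
  have hp0 : p ≠ 0 := fun e0 => by
    rw [e0, zero_mul, zero_mul, zero_add, mul_eq_zero, or_iff_left hpp0, mul_self_eq_zero] at e
    exact hne e0 e
  obtain ⟨u₁, hu₁⟩ : ∃ u, u = p • b + p' • p₂ := ⟨_, rfl⟩
  obtain ⟨κ, hκ⟩ : ∃ κ, κ = (2 * (p * p * h b b))⁻¹ := ⟨_, rfl⟩
  have h2 := two_ne S
  have hden : 2 * (p * p * h b b) ≠ 0 := mul_ne_zero h2 (mul_ne_zero (mul_ne_zero hp0 hp0) hbb)
  have hκm : κ ∈ F₀ := hκ ▸ F₀.inv_mem (F₀.mul_mem (two_mem S) (F₀.mul_mem (F₀.mul_mem hp hp) (h_rat S hb hb)))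
  have hκ1 : 2 * (p * p * h b b) * κ = 1 := by rw [hκ, mul_inv_cancel₀ hden]
  obtain ⟨u₂, hu₂⟩ : ∃ u, u = (κ * p) • b + (-(κ * p')) • p₂ := ⟨_, rfl⟩
  have hu₁R : IsR F₀ P u₁ := hu₁ ▸ (hb.smul hp).add (hp₂R.smul hp')
  have hu₂R : IsR F₀ P u₂ :=
    hu₂ ▸ (hb.smul (F₀.mul_mem hκm hp)).add (hp₂R.smul (F₀.neg_mem (F₀.mul_mem hκm hp')))
  have h11 : h u₁ u₁ = 0 := by
    simp only [hu₁, h_add_left, h_add_right hF, h_smul_left, h_smul_right hF, hbp, hpb, fixed S hp, fixed S hp']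
    linear_combination e
  have h22 : h u₂ u₂ = 0 := by
    simp only [hu₂, h_add_left, h_add_right hF, h_smul_left, h_smul_right hF, hbp, hpb, fixed S hp,
      fixed S hp', fixed S hκm, map_mul, map_neg]
    linear_combination κ * κ * e
  have h12 : h u₁ u₂ = 1 := by
    simp only [hu₁, hu₂, h_add_left, h_add_right hF, h_smul_left, h_smul_right hF, hbp, hpb, fixed S hp,
      fixed S hp', fixed S hκm, map_mul, map_neg]
    linear_combination hκ1 - κ * e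
  have o : ∀ v, h b v = 0 → h p₂ v = 0 → h u₁ v = 0 ∧ h u₂ v = 0 := fun v c1 c2 => by
    simp only [hu₁, hu₂, h_add_left, h_smul_left, c1, c2, mul_zero, add_zero, and_self]
  have B : Frame q F₀ P u₁ u₂ e₁ e₂ := ⟨hu₁R, hu₂R, he₁, he₂, h11, h22, h12,
    (o e₁ (h_zero (hF := hF) d1) (h_zero (hF := hF) d2)).1, (o e₂ (h_zero (hF := hF) d3) (h_zero (hF := hF) d4)).1,
    (o e₁ (h_zero (hF := hF) d1) (h_zero (hF := hF) d2)).2, (o e₂ (h_zero (hF := hF) d3) (h_zero (hF := hF) d4)).2,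
    h_zero (hF := hF) d5, n₁, n₂⟩
  have hxe := B.expand (hF := hF) x
  rw [hxe1, hxe2, zero_div, zero_div, zero_smul, zero_smul, add_zero, add_zero] at hxe
  have hα : h x u₂ ≠ 0 := fun e0 => hreal (h x u₁) u₂ hu₂R (by
    rw [e0, zero_smul, zero_add] at hxe; exact hxe)
  obtain ⟨ε', hε'⟩ : ∃ ε', ε' = h x u₁ / h x u₂ := ⟨_, rfl⟩
  have hε'0 : ε' ≠ 0 := fun e0 => by
    rw [hε', div_eq_zero_iff, or_iff_left hα] at e0
    exact hreal (h x u₂) u₁ hu₁R (by rw [e0, zero_smul, add_zero] at hxe; exact hxe)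
  have hxx' : x = h x u₂ • (u₁ + ε' • u₂) := by
    conv_lhs => rw [hxe]
    rw [smul_add, smul_smul, hε', mul_div_cancel₀ _ hα]
  have hskew : σ ε' = -ε' := by
    have := hxx
    rw [hxx'] at this
    simp only [h_smul_left, h_smul_right hF, h_add_left, h_add_right hF, h11, h22, h12,
      show h u₂ u₁ = 1 by rw [← h_swap hF, h12, map_one]] at this
    have h' : (h x u₂ * σ (h x u₂)) * (σ ε' + ε') = 0 := by linear_combination this
    exact eq_neg_of_add_eq_zero_left ((mul_eq_zero.1 h').resolve_left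
      (mul_ne_zero hα ((map_ne_zero σ).2 hα)))
  obtain ⟨k, hk, hkout, hρ⟩ := fix_of_hyper O hg B₀ B hA hskew hε'0 (hx ▸ hxx')
  exact ⟨k, hk, hkout, r₀, r₀', f₁, f₂, B₀, hρ⟩

end CfsgLib.MaxSub.SUFour.OFour
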